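import Groth.Agent.Lib.Hyper25.Universal

/-!
# Existence of hypercoverings in a class
-/

set_option autoImplicit false
set_option linter.unusedSectionVars false

universe u

open CategoryTheory CategoryTheory.Limits Opposite

namespace GrothLib.Hyper25

variable {C : Type u} [SmallCategory C] (J : GrothendieckTopology C) (B : Set C)

theorem exists_hypercoveringSite
    (hB : ∀ U : C, ∃ (ι : Type u) (Y : ι → C) (f : ∀ i, Y i ⟶ U), Sieve.ofArrows Y f ∈ J U ∧ ∀ i, Y i ∈ B)
    [∀ (n : ℕ) (F : (SimplexCategory.Truncated n)ᵒᵖ ⥤ Limits.FormalCoproduct.{u} C),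
      (SimplexCategory.Truncated.inclusion n).op.HasRightKanExtension F] :
    ∃ K : SimplicialObject (FormalCoproduct.{u} C), Hyper.IsHypercoveringSite J K ∧
      ∀ (n : ℕ) (i : (K.obj (op (SimplexCategory.mk n))).I), (K.obj (op (SimplexCategory.mk n))).obj i ∈ B :=
  ⟨univ B, isHypercoveringSite (hasFills_univ J (covers_of_sieve J hB))
    (exists_vertex J (covers_of_sieve J hB)), fun _ i => mem_univ i⟩

theorem exists_hypercovering (X : C)
    (hB : ∀ U : C, ∃ (ι : Type u) (Y : ι → C) (f : ∀ i, Y i ⟶ U), Sieve.ofArrows Y f ∈ J U ∧ ∀ i, Y i ∈ B)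
    [∀ (n : ℕ) (F : (SimplexCategory.Truncated n)ᵒᵖ ⥤ Limits.FormalCoproduct.{u} (Over X)),
      (SimplexCategory.Truncated.inclusion n).op.HasRightKanExtension F] :
    ∃ K : SimplicialObject (FormalCoproduct.{u} (Over X)), Hyper.IsHypercovering J X K ∧
      ∀ (n : ℕ) (i : (K.obj (op (SimplexCategory.mk n))).I),
        ((K.obj (op (SimplexCategory.mk n))).obj i).left ∈ B := by
  let B' : Set (Over X) := {Y | Y.left ∈ B}
  have hB' : ∀ U : Over X, ∃ S ∈ J.over X U, ∀ ⦃W : Over X⦄ (g : W ⟶ U), S g →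
      ∃ (V : Over X) (h : W ⟶ V) (f : V ⟶ U), V ∈ B' ∧ h ≫ f = g := by
    intro U
    obtain ⟨S, hS, hS'⟩ := covers_of_sieve J hB U.left
    refine ⟨(Sieve.overEquiv U).symm S, by simpa [GrothendieckTopology.mem_over_iff] using hS, fun W g hg => ?_⟩
    obtain ⟨V, h, f, hV, hhf⟩ := hS' g.left ((Sieve.overEquiv_symm_iff S g).1 hg)
    exact ⟨Over.mk (f ≫ U.hom), Over.homMk h (by simp [← Over.w g, ← hhf]), Over.homMk f rfl, hV,
      Over.OverMorphism.ext (by simpa using hhf)⟩
  refine ⟨univ B', isHypercovering (hasFills_univ (J.over X) hB') ?_, fun _ i => mem_univ (B := B') i⟩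
  obtain ⟨S, hS, hS'⟩ := covers_of_sieve J hB X
  refine ⟨S, hS, fun V g hg => ?_⟩
  obtain ⟨W, h, f, hW, hhf⟩ := hS' g hg
  exact ⟨FormalCoproduct.Hom.fromIncl (Diag.const (B := B') _ (show (Over.mk f).left ∈ B from hW))
    (Over.homMk h hhf)⟩

end GrothLib.Hyper25
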