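import Groth.Agent.Lib.Hyper25.Fills
import Mathlib.CategoryTheory.Limits.Shapes.Pullback.IsPullback.Basic
import Mathlib.CategoryTheory.Limits.Constructions.LimitsOfProductsAndEqualizers
import Mathlib.CategoryTheory.Limits.FunctorCategory.Shapes.Pullbacks
import Mathlib.CategoryTheory.Limits.FunctorCategory.Shapes.Products
import Mathlib.CategoryTheory.Comma.Over.Pullback

/-!
# Refinements of hypercoverings
-/

set_option autoImplicit false
set_option backward.isDefEq.respectTransparency false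
set_option backward.isDefEq.respectTransparency.types false
set_option linter.unusedSectionVars false

universe u

open CategoryTheory CategoryTheory.Limits Opposite Simplicial

namespace GrothLib.Hyper25

variable {C : Type u} [SmallCategory C] [HasPullbacks C] (X : C)

instance hasFiniteLimits_formalCoproduct_over : HasFiniteLimits (FormalCoproduct.{u} (Over X)) :=
  hasFiniteLimits_of_hasTerminal_and_pullbacks

instance finite_hom (a b : SimplexCategory) : Finite (a ⟶ b) :=
  Finite.of_injective (β := Fin (a.len + 1) → Fin (b.len + 1)) (fun f => f.toOrderHom) fun f g h =>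
    SimplexCategory.Hom.ext _ _ (OrderHom.ext _ _ h)

variable {X} (n : ℕ)

/-- The simplicial object of families indexed by the simplices of degree `n`. -/
noncomputable def powObj (Y : FormalCoproduct.{u} (Over X)) : SimplicialObject (FormalCoproduct.{u} (Over X)) where
  obj a := ∏ᶜ fun _ : (⦋n⦌ ⟶ a.unop) => Y
  map ψ := Pi.lift fun θ => Pi.π (fun _ => Y) (θ ≫ ψ.unop)
  map_id a := Pi.hom_ext _ _ fun θ => by simp
  map_comp ψ ψ' := Pi.hom_ext _ _ fun θ => by simp

/-- Its functoriality. -/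
noncomputable def powMap {Y Y' : FormalCoproduct.{u} (Over X)} (u : Y ⟶ Y') : powObj n Y ⟶ powObj n Y' where
  app a := Limits.Pi.map fun _ => u
  naturality a b ψ := Pi.hom_ext _ _ fun θ => by simp [powObj]

/-- The family of faces. -/
noncomputable def toPow (K : SimplicialObject (FormalCoproduct.{u} (Over X))) :
    K ⟶ powObj n (K.obj (op ⦋n⦌)) where
  app a := Pi.lift fun θ => K.map θ.op
  naturality a b ψ := Pi.hom_ext _ _ fun θ => by
    simp only [Category.assoc, Pi.lift_π, powObj]
    rw [← K.map_comp]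
    rfl

variable (K : SimplicialObject (FormalCoproduct.{u} (Over X))) {Z : FormalCoproduct.{u} (Over X)}
  (u : Z ⟶ K.obj (op ⦋n⦌))

/-- The refinement of `K` along `u`. -/
noncomputable abbrev refineObj : SimplicialObject (FormalCoproduct.{u} (Over X)) :=
  pullback (toPow n K) (powMap n u)

/-- The component at a simplex of degree `n`. -/
noncomputable def comp' (a : SimplexCategory) (θ : ⦋n⦌ ⟶ a) :
    (refineObj n K u).obj (op a) ⟶ Z :=
  (pullback.snd (toPow n K) (powMap n u)).app (op a) ≫ Pi.π (fun _ : (⦋n⦌ ⟶ a) => Z) θ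

theorem map_comp' {a b : SimplexCategory} (ψ : b ⟶ a) (θ : ⦋n⦌ ⟶ b) :
    (refineObj n K u).map ψ.op ≫ comp' n K u b θ = comp' n K u a (θ ≫ ψ) := by
  rw [comp', comp', NatTrans.naturality_assoc]
  congr 1
  exact Pi.lift_π _ θ

theorem comp'_u (a : SimplexCategory) (θ : ⦋n⦌ ⟶ a) :
    comp' n K u a θ ≫ u = (pullback.fst (toPow n K) (powMap n u)).app (op a) ≫ K.map θ.op := by
  have h := congrArg (fun t => NatTrans.app t (op a) ≫ Pi.π (fun _ : (⦋n⦌ ⟶ a) => K.obj (op ⦋n⦌)) θ)
    (pullback.condition (f := toPow n K) (g := powMap n u))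
  simp only [NatTrans.comp_app, Category.assoc] at h
  rw [show (toPow n K).app (op a) ≫ Pi.π (fun _ : (⦋n⦌ ⟶ a) => K.obj (op ⦋n⦌)) θ = K.map θ.op from
    Pi.lift_π _ θ] at h
  refine (Category.assoc _ _ _).trans (Eq.trans ?_ h.symm)
  exact congrArg (_ ≫ ·) (Limits.Pi.map_π (fun _ : (⦋n⦌ ⟶ a) => u) θ).symm

theorem exists_sec {a : SimplexCategory} {W : FormalCoproduct.{u} (Over X)} (x : W ⟶ K.obj (op a))
    (z : (⦋n⦌ ⟶ a) → (W ⟶ Z)) (hz : ∀ θ, z θ ≫ u = x ≫ K.map θ.op) :
    ∃ l : W ⟶ (refineObj n K u).obj (op a),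
      l ≫ (pullback.fst (toPow n K) (powMap n u)).app (op a) = x ∧ ∀ θ, l ≫ comp' n K u a θ = z θ := by
  have sq := (IsPullback.of_hasPullback (toPow n K) (powMap n u)).map ((evaluation _ _).obj (op a))
  let z' : W ⟶ (powObj n Z).obj (op a) := Pi.lift z
  have w : x ≫ (toPow n K).app (op a) = z' ≫ (powMap n u).app (op a) := Pi.hom_ext _ _ fun θ => by
    simp [toPow, powMap, z', hz]
  refine ⟨sq.lift x z' w, sq.lift_fst _ _ _, fun θ => ?_⟩
  exact (Category.assoc _ _ _).symm.trans ((congrArg (· ≫ Pi.π (fun _ : (⦋n⦌ ⟶ a) => Z) θ) (sq.lift_snd x z' w)).trans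
    (Pi.lift_π _ θ))

theorem hom_ext_sec {a : SimplexCategory} {W : FormalCoproduct.{u} (Over X)}
    {l l' : W ⟶ (refineObj n K u).obj (op a)}
    (h1 : l ≫ (pullback.fst (toPow n K) (powMap n u)).app (op a) =
      l' ≫ (pullback.fst (toPow n K) (powMap n u)).app (op a))
    (h2 : ∀ θ, l ≫ comp' n K u a θ = l' ≫ comp' n K u a θ) : l = l' :=
  ((IsPullback.of_hasPullback (toPow n K) (powMap n u)).map ((evaluation _ _).obj (op a))).hom_ext h1
    (Pi.hom_ext _ _ fun θ => (Category.assoc _ _ _).trans ((h2 θ).trans (Category.assoc _ _ _).symm))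

variable (J : GrothendieckTopology C)
  [∀ (n : ℕ) (F : (SimplexCategory.Truncated n)ᵒᵖ ⥤ Limits.FormalCoproduct.{u} (Over X)),
    (SimplexCategory.Truncated.inclusion n).op.HasRightKanExtension F]

theorem hasFills_refineObj (hK : HasFills (J.over X) K) (hu : Hyper.IsSRCovering (J.over X) u) :
    HasFills (J.over X) (refineObj n K u) := by
  intro m U b
  let f := pullback.fst (toPow n K) (powMap n u)
  let bK : Bdry K m U :=
    { s := fun φ h => b.s φ h ≫ f.app _
      w := fun {k l} ψ φ h h' => by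
        rw [b.w ψ φ h h', Category.assoc, Category.assoc, f.naturality] }
  obtain ⟨S, hS, h⟩ := hK m U bK
  let P : ∀ ⦃V : Over X⦄, (V ⟶ U) → Prop := fun V g =>
    ∃ l : (FormalCoproduct.incl (Over X)).obj V ⟶ (refineObj n K u).obj (op ⦋m + 1⦌),
      ∀ {k : SimplexCategory} (φ : k ⟶ ⦋m + 1⦌) (h : ¬ Function.Surjective φ.toOrderHom),
        l ≫ (refineObj n K u).map φ.op = (FormalCoproduct.incl (Over X)).map g ≫ b.s φ h
  let R : Sieve U :=
    { arrows := fun V g => P g
      downward_closed := by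
        rintro V W g ⟨l, hl⟩ e
        refine ⟨(FormalCoproduct.incl (Over X)).map e ≫ l, fun {k} φ hφ => ?_⟩
        rw [Category.assoc, hl φ hφ, Functor.map_comp, Category.assoc] }
  refine ⟨R, (J.over X).transitive hS R fun V g hg => ?_, fun V g hg => hg⟩
  obtain ⟨x, hx⟩ := h g hg
  obtain ⟨T, hT, hT'⟩ := exists_cover_all (J := J.over X)
    (fun (θ : ⦋n⦌ ⟶ ⦋m + 1⦌) W (e : W ⟶ V) => ∃ z : (FormalCoproduct.incl (Over X)).obj W ⟶ Z,
      z ≫ u = (FormalCoproduct.incl (Over X)).map e ≫ x ≫ K.map θ.op)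
    fun θ => exists_lift_of_isSRCovering u hu (x ≫ K.map θ.op)
  refine (J.over X).superset_covering (fun W e he => ?_) hT
  classical
  choose z hz using hT' e he
  let z' : (⦋n⦌ ⟶ ⦋m + 1⦌) → ((FormalCoproduct.incl (Over X)).obj W ⟶ Z) := fun θ =>
    if h : Function.Surjective θ.toOrderHom then z θ
    else (FormalCoproduct.incl (Over X)).map (e ≫ g) ≫ b.s θ h ≫ comp' n K u ⦋n⦌ (𝟙 _)
  obtain ⟨l, hl1, hl2⟩ := exists_sec n K u ((FormalCoproduct.incl (Over X)).map e ≫ x) z' fun θ => by
    by_cases h : Function.Surjective θ.toOrderHom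
    · simp only [z', dif_pos h, hz θ, Category.assoc]
    · simp only [z', dif_neg h, Category.assoc, comp'_u, op_id, K.map_id, Category.comp_id]
      rw [hx θ h, Functor.map_comp, Category.assoc]
  refine ⟨l, fun {k} φ hφ => hom_ext_sec n K u ?_ fun θ => ?_⟩
  · rw [Category.assoc, f.naturality, ← Category.assoc, hl1, Category.assoc, hx φ hφ, Functor.map_comp,
      Category.assoc, Category.assoc]
  · have hθ : ¬ Function.Surjective (θ ≫ φ).toOrderHom := not_surj_comp θ φ hφ
    rw [Category.assoc, map_comp', hl2]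
    simp only [z', dif_neg hθ]
    rw [b.w θ φ hφ hθ]
    simp only [Category.assoc, map_comp', Category.id_comp]

theorem isHypercovering_refineObj (hK : Hyper.IsHypercovering J X K) (hu : Hyper.IsSRCovering (J.over X) u) :
    Hyper.IsHypercovering J X (refineObj n K u) := by
  refine isHypercovering (hasFills_refineObj n K u J (hasFills_of_isHypercovering hK) hu) ?_
  obtain ⟨S, hS, h⟩ := vertex_of_isHypercovering hK
  let P : ∀ ⦃V : C⦄, (V ⟶ X) → Prop := fun V g =>
    Nonempty ((FormalCoproduct.incl (Over X)).obj (Over.mk g) ⟶ (refineObj n K u).obj (op ⦋0⦌))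
  let R : Sieve X :=
    { arrows := fun V g => P g
      downward_closed := by
        rintro V W g ⟨l⟩ e
        exact ⟨(FormalCoproduct.incl (Over X)).map (Over.homMk e : Over.mk (e ≫ g) ⟶ Over.mk g) ≫ l⟩ }
  refine ⟨R, J.transitive hS R fun V g hg => ?_, fun V g hg => hg⟩
  obtain ⟨x⟩ := h g hg
  obtain ⟨T, hT, hT'⟩ := exists_cover_all (J := J.over X)
    (fun (θ : ⦋n⦌ ⟶ ⦋0⦌) W (e : W ⟶ Over.mk g) => ∃ z : (FormalCoproduct.incl (Over X)).obj W ⟶ Z,
      z ≫ u = (FormalCoproduct.incl (Over X)).map e ≫ x ≫ K.map θ.op)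
    fun θ => exists_lift_of_isSRCovering u hu (x ≫ K.map θ.op)
  rw [GrothendieckTopology.mem_over_iff] at hT
  refine J.superset_covering (fun W e he => ?_) hT
  rw [Sieve.overEquiv_iff] at he
  choose z hz using hT' _ he
  obtain ⟨l, -, -⟩ := exists_sec n K u ((FormalCoproduct.incl (Over X)).map
    (Over.homMk e : Over.mk (e ≫ g) ⟶ Over.mk g) ≫ x) z fun θ => (hz θ).trans (Category.assoc _ _ _).symm
  exact ⟨l⟩

end GrothLib.Hyper25
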