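import Groth.Agent.Lib.Hyper25.Refine
import Groth.Agent.Lib.Hyper25.Exists
import Groth.Agent.Lib.Hyper19.Acyclic
import Groth.Agent.Lib.DerCat.DimShiftRD
import Groth.Agent.S3882
import Groth.Prelude.Def_Hyper2
import Mathlib.Algebra.Homology.HomologySequenceLemmas

/-!
# Cech classes over hypercoverings and sheaf cohomology
-/

set_option autoImplicit false
set_option backward.isDefEq.respectTransparency false
set_option backward.isDefEq.respectTransparency.types false
set_option linter.unusedSectionVars false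
set_option maxHeartbeats 800000

universe u

open CategoryTheory CategoryTheory.Limits Opposite Simplicial

namespace GrothLib.Hyper25

variable {C : Type u} [SmallCategory C] {X : C}

/-- The Cech complex as a functor of the presheaf. -/
noncomputable abbrev cx (K : SimplicialObject (FormalCoproduct.{u} (Over X))) :
    (Cᵒᵖ ⥤ AddCommGrpCat.{u}) ⥤ CochainComplex AddCommGrpCat.{u} ℕ :=
  (Functor.whiskeringLeft (Over X)ᵒᵖ Cᵒᵖ AddCommGrpCat.{u}).obj (Over.forget X).op ⋙ Hyper19.cxK K

/-- Its functoriality in the simplicial object. -/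
noncomputable def cxMap {K L : SimplicialObject (FormalCoproduct.{u} (Over X))} (f : L ⟶ K) : cx K ⟶ cx L :=
  Functor.whiskerLeft ((Functor.whiskeringLeft (Over X)ᵒᵖ Cᵒᵖ AddCommGrpCat.{u}).obj (Over.forget X).op)
    (Functor.whiskerRight
      (Functor.whiskerLeft (FormalCoproduct.evalOp.{u} (Over X) AddCommGrpCat.{u})
        ((Functor.whiskeringLeft _ _ _).map (NatTrans.rightOp f)))
      (AlgebraicTopology.alternatingCofaceMapComplex AddCommGrpCat.{u}))

theorem cxMap_app {K L : SimplicialObject (FormalCoproduct.{u} (Over X))} (f : L ⟶ K)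
    (P : Cᵒᵖ ⥤ AddCommGrpCat.{u}) : (cxMap f).app P = Hyper.cechMap X f P := rfl

/-- The map on Cech cohomology induced by a map of presheaves. -/
noncomputable abbrev pmap (K : SimplicialObject (FormalCoproduct.{u} (Over X))) {P Q : Cᵒᵖ ⥤ AddCommGrpCat.{u}}
    (g : P ⟶ Q) (p : ℕ) : Hyper.cechH X K P p ⟶ Hyper.cechH X K Q p :=
  HomologicalComplex.homologyMap ((cx K).map g) p

theorem cechHMap_pmap {K L : SimplicialObject (FormalCoproduct.{u} (Over X))} (f : L ⟶ K)
    {P Q : Cᵒᵖ ⥤ AddCommGrpCat.{u}} (g : P ⟶ Q) (p : ℕ) (ξ : Hyper.cechH X K P p) :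
    Hyper.cechHMap X f Q p (pmap K g p ξ) = pmap L g p (Hyper.cechHMap X f P p ξ) := by
  have h := congrArg (fun t => HomologicalComplex.homologyMap t p) ((cxMap f).naturality g)
  simp only [HomologicalComplex.homologyMap_comp, cxMap_app] at h
  exact ConcreteCategory.congr_hom h ξ

theorem cechHMap_comp {K L M : SimplicialObject (FormalCoproduct.{u} (Over X))} (f : L ⟶ K) (g : M ⟶ L)
    (P : Cᵒᵖ ⥤ AddCommGrpCat.{u}) (p : ℕ) (ξ : Hyper.cechH X K P p) :
    Hyper.cechHMap X (g ≫ f) P p ξ = Hyper.cechHMap X g P p (Hyper.cechHMap X f P p ξ) := by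
  have h : Hyper.cechMap X (g ≫ f) P = Hyper.cechMap X f P ≫ Hyper.cechMap X g P := by
    rw [Hyper.cechMap, Hyper.cechMap, Hyper.cechMap, ← Functor.map_comp, ← NatTrans.comp_app, ← Functor.map_comp]
    rfl
  change HomologicalComplex.homologyMap (Hyper.cechMap X (g ≫ f) P) p ξ = _
  rw [h, HomologicalComplex.homologyMap_comp]
  rfl

theorem shortExact_cx (K : SimplicialObject (FormalCoproduct.{u} (Over X)))
    {S : ShortComplex (Cᵒᵖ ⥤ AddCommGrpCat.{u})} (hS : S.ShortExact) : (S.map (cx K)).ShortExact :=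
  Hyper19.cxK_shortExact K _
    (hS.map_of_exact ((Functor.whiskeringLeft (Over X)ᵒᵖ Cᵒᵖ AddCommGrpCat.{u}).obj (Over.forget X).op))

theorem cechHMap_δ {K L : SimplicialObject (FormalCoproduct.{u} (Over X))} (f : L ⟶ K)
    {S : ShortComplex (Cᵒᵖ ⥤ AddCommGrpCat.{u})} (hS : S.ShortExact) (p : ℕ)
    (η : Hyper.cechH X K S.X₃ p) :
    Hyper.cechHMap X f S.X₁ (p + 1) ((shortExact_cx K hS).δ p (p + 1) rfl η) =
      (shortExact_cx L hS).δ p (p + 1) rfl (Hyper.cechHMap X f S.X₃ p η) :=
  ConcreteCategory.congr_hom (HomologicalComplex.HomologySequence.δ_naturality (S.mapNatTrans (cxMap f))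
    (shortExact_cx K hS) (shortExact_cx L hS) p (p + 1) rfl) η

section degreeZero

variable (K : SimplicialObject (FormalCoproduct.{u} (Over X))) (G : Cᵒᵖ ⥤ AddCommGrpCat.{u})

/-- The restriction of a section over `X` to the members of degree zero. -/
noncomputable def resK : G.obj (op X) ⟶ (Hyper.cechCx X K G).X 0 :=
  Pi.lift fun i : (K.obj (op ⦋0⦌)).I => G.map ((K.obj (op ⦋0⦌)).obj i).hom.op

theorem cev_resK (s : G.obj (op X)) (i : (K.obj (op ⦋0⦌)).I) :
    Hyper19.cev K ((Over.forget X).op ⋙ G) i (resK K G s) = G.map ((K.obj (op ⦋0⦌)).obj i).hom.op s :=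
  ConcreteCategory.congr_hom (Pi.lift_π (fun i : (K.obj (op ⦋0⦌)).I => G.map ((K.obj (op ⦋0⦌)).obj i).hom.op) i) s

theorem cev_d (c : (Hyper.cechCx X K G).X 0) (k : (K.obj (op ⦋1⦌)).I) :
    Hyper19.cev K ((Over.forget X).op ⋙ G) k ((Hyper.cechCx X K G).d 0 1 c) =
      G.map ((K.δ (0 : Fin 2)).φ k).left.op (Hyper19.cev K ((Over.forget X).op ⋙ G) ((K.δ (0 : Fin 2)).f k) c) -
      G.map ((K.δ (1 : Fin 2)).φ k).left.op (Hyper19.cev K ((Over.forget X).op ⋙ G) ((K.δ (1 : Fin 2)).f k) c) := by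
  let cos := (FormalCoproduct.cosimplicialObjectFunctor K).obj ((Over.forget X).op ⋙ G)
  have hd : (Hyper.cechCx X K G).d 0 1 = cos.δ 0 - cos.δ 1 := by
    refine (CochainComplex.of_d (fun n => cos.obj ⦋n⦌) (AlgebraicTopology.AlternatingCofaceMapComplex.objD cos) 0).trans ?_
    simp [AlgebraicTopology.AlternatingCofaceMapComplex.objD, Fin.sum_univ_two, sub_eq_add_neg]
  rw [hd]
  change Hyper19.cev K ((Over.forget X).op ⋙ G) k (cos.δ 0 c - cos.δ 1 c) = _
  rw [map_sub]
  refine congrArg₂ (· - ·) ?_ ?_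
  · exact ConcreteCategory.congr_hom (Pi.lift_π (fun k : (K.obj (op ⦋1⦌)).I =>
      Pi.π (fun i : (K.obj (op ⦋0⦌)).I => ((Over.forget X).op ⋙ G).obj (op ((K.obj (op ⦋0⦌)).obj i)))
        ((K.δ (0 : Fin 2)).f k) ≫ ((Over.forget X).op ⋙ G).map ((K.δ (0 : Fin 2)).φ k).op) k) c
  · exact ConcreteCategory.congr_hom (Pi.lift_π (fun k : (K.obj (op ⦋1⦌)).I =>
      Pi.π (fun i : (K.obj (op ⦋0⦌)).I => ((Over.forget X).op ⋙ G).obj (op ((K.obj (op ⦋0⦌)).obj i)))
        ((K.δ (1 : Fin 2)).f k) ≫ ((Over.forget X).op ⋙ G).map ((K.δ (1 : Fin 2)).φ k).op) k) c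

theorem resK_d : resK K G ≫ (Hyper.cechCx X K G).d 0 1 = 0 := by
  refine ConcreteCategory.hom_ext _ _ fun s => Hyper19.cext fun k => ?_
  refine (cev_d K G (resK K G s) k).trans ?_
  rw [cev_resK, cev_resK, ← Functor.map_comp_apply, ← Functor.map_comp_apply, ← op_comp, ← op_comp,
    Over.w, Over.w, sub_self]
  exact (map_zero _).symm

/-- The comparison in degree zero. -/
noncomputable def εK : G.obj (op X) ⟶ Hyper.cechH X K G 0 :=
  (Hyper.cechCx X K G).liftCycles (resK K G) 1 (by simp) (resK_d K G) ≫ (Hyper.cechCx X K G).homologyπ 0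

theorem εK_nat {G' : Cᵒᵖ ⥤ AddCommGrpCat.{u}} (g : G ⟶ G') (s : G.obj (op X)) :
    pmap K g 0 (εK K G s) = εK K G' (g.app (op X) s) := by
  have h : resK K G ≫ ((cx K).map g).f 0 = g.app (op X) ≫ resK K G' := by
    refine ConcreteCategory.hom_ext _ _ fun s => Hyper19.cext fun i => ?_
    refine (Hyper19.cev_map (K := K) (Functor.whiskerLeft (Over.forget X).op g) i (resK K G s)).trans ?_
    refine Eq.trans ?_ (cev_resK K G' (g.app (op X) s) i).symm
    rw [cev_resK]
    exact NatTrans.naturality_apply g ((K.obj (op ⦋0⦌)).obj i).hom.op s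
  have hc : (Hyper.cechCx X K G).liftCycles (resK K G) 1 (by simp) (resK_d K G) ≫
      HomologicalComplex.cyclesMap ((cx K).map g) 0 =
        g.app (op X) ≫ (Hyper.cechCx X K G').liftCycles (resK K G') 1 (by simp) (resK_d K G') := by
    rw [← cancel_mono ((Hyper.cechCx X K G').iCycles 0), Category.assoc, Category.assoc,
      HomologicalComplex.liftCycles_i]
    refine (congrArg (_ ≫ ·) (HomologicalComplex.cyclesMap_i ((cx K).map g) 0)).trans ?_
    exact ((Hyper.cechCx X K G).liftCycles_i_assoc (resK K G) 1 (by simp) (resK_d K G) _).trans h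
  have : εK K G ≫ pmap K g 0 = g.app (op X) ≫ εK K G' := by
    refine (Category.assoc _ _ _).trans ((congrArg (_ ≫ ·)
      (HomologicalComplex.homologyπ_naturality ((cx K).map g) 0)).trans ?_)
    refine (Category.assoc _ _ _).symm.trans ((congrArg (· ≫ _) hc).trans (Category.assoc _ _ _))
  exact ConcreteCategory.congr_hom this s

theorem εK_map {L : SimplicialObject (FormalCoproduct.{u} (Over X))} (f : L ⟶ K) (s : G.obj (op X)) :
    Hyper.cechHMap X f G 0 (εK K G s) = εK L G s := by
  have h : resK K G ≫ (Hyper.cechMap X f G).f 0 = resK L G := by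
    refine ConcreteCategory.hom_ext _ _ fun s => Hyper19.cext fun i => ?_
    refine (ConcreteCategory.congr_hom (Pi.lift_π (fun j : (L.obj (op ⦋0⦌)).I =>
      Pi.π (fun i : (K.obj (op ⦋0⦌)).I => ((Over.forget X).op ⋙ G).obj (op ((K.obj (op ⦋0⦌)).obj i)))
        ((f.app (op ⦋0⦌)).f j) ≫ ((Over.forget X).op ⋙ G).map ((f.app (op ⦋0⦌)).φ j).op) i) (resK K G s)).trans ?_
    refine (congrArg (G.map ((f.app (op ⦋0⦌)).φ i).left.op) (cev_resK K G s ((f.app (op ⦋0⦌)).f i))).trans ?_
    rw [← Functor.map_comp_apply, ← op_comp, Over.w]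
    exact (cev_resK L G s i).symm
  have hc : (Hyper.cechCx X K G).liftCycles (resK K G) 1 (by simp) (resK_d K G) ≫
      HomologicalComplex.cyclesMap (Hyper.cechMap X f G) 0 =
        (Hyper.cechCx X L G).liftCycles (resK L G) 1 (by simp) (resK_d L G) := by
    rw [← cancel_mono ((Hyper.cechCx X L G).iCycles 0), Category.assoc,
      HomologicalComplex.cyclesMap_i, HomologicalComplex.liftCycles_i_assoc,
      HomologicalComplex.liftCycles_i]
    exact h
  have : εK K G ≫ HomologicalComplex.homologyMap (Hyper.cechMap X f G) 0 = εK L G := by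
    rw [εK, εK, Category.assoc, HomologicalComplex.homologyπ_naturality, ← Category.assoc, hc]
  exact ConcreteCategory.congr_hom this s

theorem injective_cocycles : Function.Injective
    fun z : (Hyper.cechCx X K G).cycles 0 => (Hyper.cechCx X K G).homologyπ 0 z :=
  (AddCommGrpCat.mono_iff_injective _).1
    (inferInstanceAs (Mono (CochainComplex.isoHomologyπ₀ (Hyper.cechCx X K G)).hom))

variable {J : GrothendieckTopology C} (F : Sheaf J AddCommGrpCat.{u})
  [∀ (n : ℕ) (F : (SimplexCategory.Truncated n)ᵒᵖ ⥤ Limits.FormalCoproduct.{u} (Over X)),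
    (SimplexCategory.Truncated.inclusion n).op.HasRightKanExtension F]

theorem isSheafFor_zero (hK : Hyper.IsHypercovering J X K) (F : Sheaf J AddCommGrpCat.{u}) :
    Presieve.IsSheafFor (F.obj ⋙ forget AddCommGrpCat.{u})
      (Presieve.ofArrows (fun i => ((K.obj (op ⦋0⦌)).obj i).left) (fun i => ((K.obj (op ⦋0⦌)).obj i).hom)) := by
  rw [Presieve.isSheafFor_iff_generate]
  exact (isSheaf_iff_isSheaf_of_type J _).1
    ((sheafCompose J (forget AddCommGrpCat.{u})).obj F).property _ hK.1

theorem εK_injective (hK : Hyper.IsHypercovering J X K) :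
    Function.Injective fun s : F.obj.obj (op X) => εK K F.obj s := by
  intro s t h
  refine (isSheafFor_zero K hK F).isSeparatedFor.ext ?_
  rintro W _ ⟨i⟩
  have h1 := congrArg ((Hyper.cechCx X K F.obj).iCycles 0) (injective_cocycles K F.obj
    (a₁ := (Hyper.cechCx X K F.obj).liftCycles (resK K F.obj) 1 (by simp) (resK_d K F.obj) s)
    (a₂ := (Hyper.cechCx X K F.obj).liftCycles (resK K F.obj) 1 (by simp) (resK_d K F.obj) t) h)
  have h2 := (ConcreteCategory.congr_hom ((Hyper.cechCx X K F.obj).liftCycles_i (resK K F.obj) 1 (by simp) (resK_d K F.obj)) s).symm.trans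
    (h1.trans (ConcreteCategory.congr_hom ((Hyper.cechCx X K F.obj).liftCycles_i (resK K F.obj) 1 (by simp) (resK_d K F.obj)) t))
  exact (cev_resK K F.obj s i).symm.trans ((congrArg (Hyper19.cev K _ i) h2).trans (cev_resK K F.obj t i))

theorem εK_surjective (hK : Hyper.IsHypercovering J X K) :
    Function.Surjective fun s : F.obj.obj (op X) => εK K F.obj s := by
  intro ξ
  obtain ⟨z, rfl⟩ := (AddCommGrpCat.epi_iff_surjective ((Hyper.cechCx X K F.obj).homologyπ 0)).1 inferInstance ξ
  let c := (Hyper.cechCx X K F.obj).iCycles 0 z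
  have hc : (Hyper.cechCx X K F.obj).d 0 1 c = 0 :=
    ConcreteCategory.congr_hom ((Hyper.cechCx X K F.obj).iCycles_d 0 1) z
  let K0 := K.obj (op ⦋0⦌)
  let cc : ∀ i : K0.I, F.obj.obj (op (K0.obj i).left) := fun i => Hyper19.cev K ((Over.forget X).op ⋙ F.obj) i c
  have hcompat : Presieve.Arrows.Compatible (F.obj ⋙ forget AddCommGrpCat.{u})
      (fun i => (K0.obj i).hom) cc := by
    intro i j W a b hab
    let V : Over X := Over.mk (a ≫ (K0.obj i).hom)
    let p : (FormalCoproduct.incl (Over X)).obj V ⟶ K0 :=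
      FormalCoproduct.Hom.fromIncl i (Over.homMk a rfl)
    let q : (FormalCoproduct.incl (Over X)).obj V ⟶ K0 :=
      FormalCoproduct.Hom.fromIncl j (Over.homMk b hab.symm)
    obtain ⟨S, hS, h⟩ := exists_fill_family (hasFills_of_isHypercovering hK) 0 V
      (fun {k} _ θ => (if θ.toOrderHom 0 = (0 : Fin 2) then q else p) ≫
        K.map (SimplexCategory.const k ⦋0⦌ 0).op)
      (fun {k l} hk hl ψ θ => by
        have : Subsingleton (Fin (k.len + 1)) := Fin.subsingleton_iff_le_one.2 (by omega)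
        have h0 : (ψ ≫ θ).toOrderHom 0 = θ.toOrderHom 0 := congrArg θ.toOrderHom (Subsingleton.elim _ _)
        rw [h0, Category.assoc]
        refine congrArg (_ ≫ ·) ?_
        rw [← K.map_comp, ← op_comp]
        exact congrArg (fun t : l ⟶ ⦋0⦌ => K.map t.op)
          (SimplexCategory.Hom.ext _ _ (OrderHom.ext _ _ (funext fun _ => Subsingleton.elim (α := Fin 1) _ _))))
    rw [GrothendieckTopology.mem_over_iff] at hS
    refine (((isSheaf_iff_isSheaf_of_type J _).1
      ((sheafCompose J (forget AddCommGrpCat.{u})).obj F).property) _ hS).isSeparatedFor.ext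
        fun W' e he => ?_
    rw [Sieve.overEquiv_iff] at he
    obtain ⟨x, hx⟩ := h _ he
    have hid : K.map (SimplexCategory.const ⦋0⦌ ⦋0⦌ 0).op = 𝟙 _ := by
      rw [show SimplexCategory.const ⦋0⦌ ⦋0⦌ 0 = 𝟙 ⦋0⦌ from
        SimplexCategory.Hom.ext _ _ (OrderHom.ext _ _ (funext fun _ => Subsingleton.elim (α := Fin 1) _ _)),
        op_id, K.map_id]
    let e' : Over.mk (e ≫ V.hom) ⟶ V := Over.homMk e
    have h0 : x ≫ K.δ (0 : Fin 2) = (FormalCoproduct.incl (Over X)).map e' ≫ p := by
      refine (hx (k := ⦋0⦌) le_rfl (SimplexCategory.δ (0 : Fin 2))).trans ?_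
      refine congrArg (_ ≫ ·) ?_
      have hne : (SimplexCategory.δ (0 : Fin 2)).toOrderHom 0 ≠ (0 : Fin 2) := fun h =>
        absurd (show (1 : Fin 2) = 0 from h) (by decide)
      exact (congrArg (· ≫ _) (if_neg hne)).trans ((congrArg (p ≫ ·) hid).trans (Category.comp_id p))
    have h1 : x ≫ K.δ (1 : Fin 2) = (FormalCoproduct.incl (Over X)).map e' ≫ q := by
      refine (hx (k := ⦋0⦌) le_rfl (SimplexCategory.δ (1 : Fin 2))).trans ?_
      refine congrArg (_ ≫ ·) ?_
      have he : (SimplexCategory.δ (1 : Fin 2)).toOrderHom 0 = (0 : Fin 2) := rfl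
      exact (congrArg (· ≫ _) (if_pos he)).trans ((congrArg (q ≫ ·) hid).trans (Category.comp_id q))
    have key : ∀ (y y' : (FormalCoproduct.incl (Over X)).obj (Over.mk (e ≫ V.hom)) ⟶ K0), y = y' →
        F.obj.map (y.φ PUnit.unit).left.op (cc (y.f PUnit.unit)) =
          F.obj.map (y'.φ PUnit.unit).left.op (cc (y'.f PUnit.unit)) := by
      rintro y _ rfl
      rfl
    have hd := congrArg (Hyper19.cev K ((Over.forget X).op ⋙ F.obj) (x.f PUnit.unit)) hc
    rw [cev_d, map_zero, sub_eq_zero] at hd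
    have hd' := congrArg (F.obj.map (x.φ PUnit.unit).left.op) hd
    rw [← Functor.map_comp_apply, ← Functor.map_comp_apply, ← op_comp, ← op_comp] at hd'
    have k0 := key _ _ h0
    have k1 := key _ _ h1
    change F.obj.map e.op (F.obj.map a.op (cc i)) = F.obj.map e.op (F.obj.map b.op (cc j))
    refine ((Functor.map_comp_apply F.obj a.op e.op (cc i)).symm.trans ?_).trans
      (Functor.map_comp_apply F.obj b.op e.op (cc j))
    exact k0.symm.trans (hd'.trans k1)
  obtain ⟨s, hs, -⟩ := (Presieve.isSheafFor_arrows_iff _ _).1 (isSheafFor_zero K hK F) cc hcompat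
  refine ⟨s, congrArg ((Hyper.cechCx X K F.obj).homologyπ 0) ?_⟩
  apply (AddCommGrpCat.mono_iff_injective ((Hyper.cechCx X K F.obj).iCycles 0)).1 inferInstance
  refine (ConcreteCategory.congr_hom ((Hyper.cechCx X K F.obj).liftCycles_i (resK K F.obj) 1 (by simp) (resK_d K F.obj)) s).trans
    (Hyper19.cext fun i => ?_)
  exact (cev_resK K F.obj s i).trans (hs i)

end degreeZero

section main

variable {J : GrothendieckTopology C} (X)
  [∀ (n : ℕ) (F : (SimplexCategory.Truncated n)ᵒᵖ ⥤ Limits.FormalCoproduct.{u} (Over X)),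
    (SimplexCategory.Truncated.inclusion n).op.HasRightKanExtension F]

/-- Every Cech class of degree `q` dies on a refinement. -/
def Dies (J : GrothendieckTopology C) (P : Cᵒᵖ ⥤ AddCommGrpCat.{u}) (q : ℕ) : Prop :=
  ∀ (K : SimplicialObject (FormalCoproduct.{u} (Over X))), Hyper.IsHypercovering J X K →
    ∀ ξ : Hyper.cechH X K P q, ∃ (L : SimplicialObject (FormalCoproduct.{u} (Over X))) (f : L ⟶ K),
      Hyper.IsHypercovering J X L ∧ Hyper.cechHMap X f P q ξ = 0

variable {X}

theorem isZero_cechH_injective {K : SimplicialObject (FormalCoproduct.{u} (Over X))}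
    (hK : Hyper.IsHypercovering J X K) (I : Sheaf J AddCommGrpCat.{u}) [Injective I] (q : ℕ) :
    IsZero (Hyper.cechH X K I.obj (q + 1)) := by
  have hP := Hyper19.fillable_of_isHypercoveringSite (Hyper19.isHypercoveringSite_over J X K hK)
  have := SheafCoh.injective_over X J I
  exact Hyper19.isZero_cech_homology
    (((Over.forget X).sheafPushforwardContinuous AddCommGrpCat.{u} (J.over X) J).obj I) K hP q

theorem dies_of_isZero [HasPullbacks C] {N : Cᵒᵖ ⥤ AddCommGrpCat.{u}}
    (hN : IsZero ((presheafToSheaf J AddCommGrpCat.{u}).obj N)) (q : ℕ) : Dies X J N q :=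
  fun K hK ξ => Groth.Agent.S3882.result J X K hK N hN q ξ

theorem exists_isHypercovering : ∃ K : SimplicialObject (FormalCoproduct.{u} (Over X)),
    Hyper.IsHypercovering J X K := by
  obtain ⟨K, hK, -⟩ := exists_hypercovering (J := J) (B := Set.univ) X fun U =>
    ⟨PUnit, fun _ => U, fun _ => 𝟙 U,
      J.superset_covering (fun V g _ => ⟨U, g, 𝟙 U, ⟨PUnit.unit⟩, Category.comp_id g⟩) (J.top_mem U),
      fun _ => Set.mem_univ _⟩
  exact ⟨K, hK⟩

theorem subsingleton_HU_iff (U : C) (F : Sheaf J AddCommGrpCat.{u}) (n : ℕ) :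
    Subsingleton (CohSite.HU F n U) ↔ IsZero (((GrothSS.secAt J U).rightDerived n).obj F) :=
  ⟨fun h => (@AddCommGrpCat.isZero_of_subsingleton (AddCommGrpCat.of (CohSite.HU F n U)) h).of_iso
      (GrothSS.rightDerivedSecAtIso J U F n),
    fun h => AddCommGrpCat.subsingleton_of_isZero (h.of_iso (GrothSS.rightDerivedSecAtIso J U F n).symm)⟩

variable (T : ShortComplex (Sheaf J AddCommGrpCat.{u})) (hT : T.ShortExact)

/-- The presheaf sequence of a sequence of sheaves. -/
noncomputable abbrev pseq : ShortComplex (Cᵒᵖ ⥤ AddCommGrpCat.{u}) :=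
  ShortComplex.mk T.f.hom (cokernel.π T.f.hom) (cokernel.condition _)

/-- The comparison of the presheaf cokernel. -/
noncomputable abbrev jmap : cokernel T.f.hom ⟶ T.X₃.obj :=
  cokernel.desc T.f.hom T.g.hom (congrArg (fun t : T.X₁ ⟶ T.X₃ => t.hom) T.zero)

/-- The locally trivial cokernel of the comparison. -/
noncomputable abbrev nseq : ShortComplex (Cᵒᵖ ⥤ AddCommGrpCat.{u}) :=
  ShortComplex.mk (jmap T) (cokernel.π (jmap T)) (cokernel.condition _)

include hT

theorem pseq_shortExact : (pseq T).ShortExact :=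
  haveI := hT.mono_f
  haveI : Mono T.f.hom := (sheafToPresheaf J AddCommGrpCat.{u}).map_mono T.f
  { exact := ShortComplex.exact_of_g_is_cokernel _ (cokernelIsCokernel _)
    mono_f := inferInstance
    epi_g := inferInstance }

theorem mono_jmap : Mono (jmap T) := by
  haveI := hT.mono_f
  have h : (T.map (sheafToPresheaf J AddCommGrpCat.{u})).Exact :=
    hT.exact.map_of_mono_of_preservesKernel (sheafToPresheaf J AddCommGrpCat.{u}) inferInstance inferInstance
  exact (T.map (sheafToPresheaf J AddCommGrpCat.{u})).exact_iff_mono_cokernel_desc.1 h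

theorem nseq_shortExact : (nseq T).ShortExact :=
  haveI := mono_jmap T hT
  { exact := ShortComplex.exact_of_g_is_cokernel _ (cokernelIsCokernel _)
    mono_f := inferInstance
    epi_g := inferInstance }

theorem isZero_sheafify_nseq : IsZero ((presheafToSheaf J AddCommGrpCat.{u}).obj (cokernel (jmap T))) := by
  haveI := hT.epi_g
  haveI : Epi ((presheafToSheaf J AddCommGrpCat.{u}).map T.g.hom) := by
    have hnat := (sheafificationAdjunction J AddCommGrpCat.{u}).counit.naturality T.g
    haveI : IsIso (sheafificationAdjunction J AddCommGrpCat.{u}).counit := inferInstance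
    have : (presheafToSheaf J AddCommGrpCat.{u}).map T.g.hom =
        ((sheafificationAdjunction J AddCommGrpCat.{u}).counit.app T.X₂ ≫ T.g) ≫
          inv ((sheafificationAdjunction J AddCommGrpCat.{u}).counit.app T.X₃) := by
      rw [IsIso.eq_comp_inv]
      exact hnat
    rw [this]
    exact epi_comp _ _
  haveI : Epi ((presheafToSheaf J AddCommGrpCat.{u}).map (jmap T)) := by
    haveI : Epi ((presheafToSheaf J AddCommGrpCat.{u}).map (cokernel.π T.f.hom) ≫
        (presheafToSheaf J AddCommGrpCat.{u}).map (jmap T)) := by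
      rw [← Functor.map_comp, cokernel.π_desc]
      infer_instance
    exact epi_of_epi ((presheafToSheaf J AddCommGrpCat.{u}).map (cokernel.π T.f.hom)) _
  exact (isZero_cokernel_of_epi _).of_iso (PreservesCokernel.iso (presheafToSheaf J AddCommGrpCat.{u}) (jmap T))

theorem pmap_jmap_zero_injective (K : SimplicialObject (FormalCoproduct.{u} (Over X))) :
    Function.Injective (pmap K (jmap T) 0) := by
  haveI := (shortExact_cx K (nseq_shortExact T hT)).mono_f
  haveI : Mono (HomologicalComplex.cyclesMap ((cx K).map (jmap T)) 0) := by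
    haveI : Mono ((cx K).map (jmap T)) := this
    haveI : Mono (((cx K).map (jmap T)).f 0) :=
      inferInstanceAs (Mono ((HomologicalComplex.eval _ _ 0).map ((cx K).map (jmap T))))
    haveI : Mono (HomologicalComplex.cyclesMap ((cx K).map (jmap T)) 0 ≫
        HomologicalComplex.iCycles _ 0) := by
      rw [HomologicalComplex.cyclesMap_i]
      infer_instance
    exact mono_of_mono (HomologicalComplex.cyclesMap ((cx K).map (jmap T)) 0) (HomologicalComplex.iCycles _ 0)
  refine (AddCommGrpCat.mono_iff_injective _).1 ?_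
  haveI : IsIso ((Hyper.cechCx X K (cokernel T.f.hom)).homologyπ 0) :=
    inferInstanceAs (IsIso (CochainComplex.isoHomologyπ₀ (Hyper.cechCx X K (cokernel T.f.hom))).hom)
  haveI : Mono ((Hyper.cechCx X K T.X₃.obj).homologyπ 0) :=
    inferInstanceAs (Mono (CochainComplex.isoHomologyπ₀ (Hyper.cechCx X K T.X₃.obj)).hom)
  have h := HomologicalComplex.homologyπ_naturality ((cx K).map (jmap T)) 0
  haveI : Mono ((Hyper.cechCx X K (cokernel T.f.hom)).homologyπ 0 ≫ pmap K (jmap T) 0) := by
    erw [h]; exact mono_comp _ _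
  exact (mono_comp_iff_of_isIso ((Hyper.cechCx X K (cokernel T.f.hom)).homologyπ 0) _).1 this

variable [Injective T.X₂]

theorem exists_δ_eq [HasPullbacks C] {K : SimplicialObject (FormalCoproduct.{u} (Over X))}
    (hK : Hyper.IsHypercovering J X K) (q : ℕ) (ξ : Hyper.cechH X K T.X₁.obj (q + 1)) :
    ∃ η : Hyper.cechH X K (cokernel T.f.hom) q,
      (shortExact_cx K (pseq_shortExact T hT)).δ q (q + 1) rfl η = ξ := by
  have hex := (shortExact_cx K (pseq_shortExact T hT)).homology_exact₁ q (q + 1) rfl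
  rw [ShortComplex.ab_exact_iff] at hex
  refine hex ξ ?_
  haveI := AddCommGrpCat.subsingleton_of_isZero (isZero_cechH_injective hK T.X₂ q)
  exact Subsingleton.elim (α := Hyper.cechH X K T.X₂.obj (q + 1)) _ _

theorem dies_succ [HasPullbacks C] (q : ℕ) (hQ : Dies X J T.X₃.obj (q + 1)) : Dies X J T.X₁.obj (q + 2) := by
  intro K hK ξ
  obtain ⟨η, rfl⟩ := exists_δ_eq T hT hK (q + 1) ξ
  obtain ⟨L, f, hL, hf⟩ := hQ K hK (pmap K (jmap T) (q + 1) η)
  rw [cechHMap_pmap] at hf
  have hex := (shortExact_cx L (nseq_shortExact T hT)).homology_exact₁ q (q + 1) rfl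
  rw [ShortComplex.ab_exact_iff] at hex
  obtain ⟨ν, hν⟩ := hex _ hf
  obtain ⟨M, g, hM, hg⟩ := dies_of_isZero (isZero_sheafify_nseq T hT) q L hL ν
  refine ⟨M, g ≫ f, hM, ?_⟩
  rw [cechHMap_δ (g ≫ f) (pseq_shortExact T hT), cechHMap_comp, ← hν]
  refine (congrArg _ ?_).trans (map_zero _)
  refine (cechHMap_δ g (nseq_shortExact T hT) q ν).trans ?_
  rw [hg]
  exact map_zero _

theorem dies_one [HasPullbacks C] (hsurj : Function.Surjective (T.g.hom.app (op X))) :
    Dies X J T.X₁.obj 1 := by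
  intro K hK ξ
  obtain ⟨η, rfl⟩ := exists_δ_eq T hT hK 0 ξ
  refine ⟨K, 𝟙 K, hK, ?_⟩
  obtain ⟨s, hs⟩ := εK_surjective K T.X₃ hK (pmap K (jmap T) 0 η)
  obtain ⟨t, ht⟩ := hsurj s
  have e : η = pmap K (cokernel.π T.f.hom) 0 (εK K T.X₂.obj t) := by
    apply pmap_jmap_zero_injective T hT K
    rw [εK_nat, εK_nat]
    refine hs.symm.trans (congrArg (εK K T.X₃.obj) (ht.symm.trans ?_))
    exact (ConcreteCategory.congr_hom (congrArg (fun a => NatTrans.app a (op X))
      (cokernel.π_desc T.f.hom T.g.hom (congrArg (fun t : T.X₁ ⟶ T.X₃ => t.hom) T.zero))) t).symm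
  have h0 : (shortExact_cx K (pseq_shortExact T hT)).δ 0 1 rfl η = 0 := by
    rw [e]
    exact ConcreteCategory.congr_hom ((shortExact_cx K (pseq_shortExact T hT)).comp_δ 0 1 rfl) _
  exact (congrArg (Hyper.cechHMap X (𝟙 K) T.X₁.obj 1) h0).trans (map_zero _)

theorem dies_of_dies_succ [HasPullbacks C] (q : ℕ) (hF : Dies X J T.X₁.obj (q + 2)) : Dies X J T.X₃.obj (q + 1) := by
  intro K hK ζ
  obtain ⟨L, f, hL, hf⟩ := dies_of_isZero (isZero_sheafify_nseq T hT) (q + 1) K hK
    (pmap K (cokernel.π (jmap T)) (q + 1) ζ)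
  rw [cechHMap_pmap] at hf
  have hex := (shortExact_cx L (nseq_shortExact T hT)).homology_exact₂ (q + 1)
  rw [ShortComplex.ab_exact_iff] at hex
  obtain ⟨η, hη⟩ := hex _ hf
  obtain ⟨M, g, hM, hg⟩ := hF L hL ((shortExact_cx L (pseq_shortExact T hT)).δ (q + 1) (q + 2) rfl η)
  have hg' := (cechHMap_δ g (pseq_shortExact T hT) (q + 1) η).symm.trans hg
  have hex' := (shortExact_cx M (pseq_shortExact T hT)).homology_exact₃ (q + 1) (q + 2) rfl
  rw [ShortComplex.ab_exact_iff] at hex'
  obtain ⟨μ, hμ⟩ := hex' _ hg'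
  refine ⟨M, g ≫ f, hM, ?_⟩
  rw [cechHMap_comp, ← hη]
  refine (cechHMap_pmap g (jmap T) (q + 1) η).trans ?_
  rw [← hμ]
  haveI := AddCommGrpCat.subsingleton_of_isZero (isZero_cechH_injective hM T.X₂ q)
  have : μ = 0 := Subsingleton.elim (α := Hyper.cechH X M T.X₂.obj (q + 1)) _ _
  rw [this, map_zero, map_zero]

theorem surjective_of_dies_one [HasPullbacks C] (hF : Dies X J T.X₁.obj 1) :
    Function.Surjective (T.g.hom.app (op X)) := by
  intro s
  obtain ⟨K, hK⟩ := exists_isHypercovering (J := J) (X := X)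
  obtain ⟨L, f, hL, hf⟩ := dies_of_isZero (isZero_sheafify_nseq T hT) 0 K hK
    (pmap K (cokernel.π (jmap T)) 0 (εK K T.X₃.obj s))
  rw [cechHMap_pmap, εK_map] at hf
  have hex := (shortExact_cx L (nseq_shortExact T hT)).homology_exact₂ 0
  rw [ShortComplex.ab_exact_iff] at hex
  obtain ⟨η, hη⟩ := hex _ hf
  obtain ⟨M, g, hM, hg⟩ := hF L hL ((shortExact_cx L (pseq_shortExact T hT)).δ 0 1 rfl η)
  have hg' := (cechHMap_δ g (pseq_shortExact T hT) 0 η).symm.trans hg
  have hex' := (shortExact_cx M (pseq_shortExact T hT)).homology_exact₃ 0 1 rfl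
  rw [ShortComplex.ab_exact_iff] at hex'
  obtain ⟨μ, hμ⟩ := hex' _ hg'
  obtain ⟨t, rfl⟩ := εK_surjective M T.X₂ hM μ
  refine ⟨t, εK_injective M T.X₃ hM ?_⟩
  change εK M T.X₃.obj _ = εK M T.X₃.obj s
  rw [← εK_map L T.X₃.obj g s]
  refine Eq.trans ?_ (congrArg (Hyper.cechHMap X g T.X₃.obj 0) hη)
  refine Eq.trans ?_ (cechHMap_pmap g (jmap T) 0 η).symm
  rw [← hμ]
  refine Eq.trans ?_ (congrArg (pmap M (jmap T) 0) (εK_nat M T.X₂.obj (cokernel.π T.f.hom) t)).symm
  refine Eq.trans ?_ (εK_nat M _ (jmap T) _).symm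
  exact congrArg (εK M T.X₃.obj) (ConcreteCategory.congr_hom (congrArg (fun a => NatTrans.app a (op X))
    (cokernel.π_desc T.f.hom T.g.hom (congrArg (fun t : T.X₁ ⟶ T.X₃ => t.hom) T.zero))) t).symm

end main

section result

variable {J : GrothendieckTopology C} (X)
  [∀ (n : ℕ) (F : (SimplexCategory.Truncated n)ᵒᵖ ⥤ Limits.FormalCoproduct.{u} (Over X)),
    (SimplexCategory.Truncated.inclusion n).op.HasRightKanExtension F]

theorem subsingleton_HU_iff_dies [HasPullbacks C] : ∀ (q : ℕ) (F : Sheaf J AddCommGrpCat.{u}),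
    Subsingleton (CohSite.HU F q X) ↔ Dies X J F.obj q := by
  intro q
  induction q with
  | zero =>
    intro F
    rw [subsingleton_HU_iff]
    let e : ((GrothSS.secAt J X).rightDerived 0).obj F ≅ F.obj.obj (op X) :=
      (Functor.rightDerivedZeroIsoSelf (GrothSS.secAt J X)).app F
    refine ⟨fun h K hK ξ => ?_, fun h => ?_⟩
    · obtain ⟨s, rfl⟩ := εK_surjective K F hK ξ
      haveI := AddCommGrpCat.subsingleton_of_isZero (h.of_iso e.symm)
      rw [Subsingleton.elim s 0]
      exact ⟨K, 𝟙 K, hK, by simp⟩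
    · haveI : Subsingleton (F.obj.obj (op X)) := subsingleton_of_forall_eq 0 fun s => by
        obtain ⟨K, hK⟩ := exists_isHypercovering (J := J) (X := X)
        obtain ⟨L, f, hL, hf⟩ := h K hK (εK K F.obj s)
        rw [εK_map] at hf
        exact εK_injective L F hL (hf.trans (map_zero (εK L F.obj).hom).symm)
      exact (AddCommGrpCat.isZero_of_subsingleton _).of_iso e
  | succ q ih =>
    intro F
    let T : ShortComplex (Sheaf J AddCommGrpCat.{u}) :=
      ShortComplex.mk (Injective.ι F) (cokernel.π (Injective.ι F)) (cokernel.condition _)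
    have hT : T.ShortExact := { exact := ShortComplex.exact_cokernel _ }
    haveI : Injective T.X₂ := inferInstanceAs (Injective (Injective.under F))
    rw [subsingleton_HU_iff]
    cases q with
    | zero =>
      let e := GrothLib.HomGamma.shiftIsoOne hT (GrothSS.secAt J X)
      constructor
      · intro h
        refine dies_one T hT ?_
        haveI : Epi ((GrothSS.secAt J X).map T.g) :=
          Abelian.epi_of_cokernel_π_eq_zero _ ((h.of_iso e.symm).eq_of_tgt _ _)
        exact (AddCommGrpCat.epi_iff_surjective _).1 this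
      · intro h
        haveI : Epi ((GrothSS.secAt J X).map T.g) :=
          (AddCommGrpCat.epi_iff_surjective _).2 (surjective_of_dies_one T hT h)
        exact (isZero_cokernel_of_epi _).of_iso e
    | succ q =>
      let e := GrothLib.HomGamma.shiftIso hT (GrothSS.secAt J X) q
      have := (ih T.X₃).symm.trans (subsingleton_HU_iff X T.X₃ (q + 1))
      exact ⟨fun h => dies_succ T hT q (this.2 (h.of_iso e.symm)),
        fun h => (this.1 (dies_of_dies_succ T hT q h)).of_iso e⟩

end result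

end GrothLib.Hyper25
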