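import Groth.Agent.Lib.Hyper25.CechColim

/-!
# Cech classes of a presheaf and of its sheafification
-/

set_option autoImplicit false
set_option backward.isDefEq.respectTransparency false
set_option backward.isDefEq.respectTransparency.types false
set_option linter.unusedSectionVars false
set_option maxHeartbeats 800000

universe u

open CategoryTheory CategoryTheory.Limits Opposite Simplicial

namespace GrothLib.Hyper25

variable {C : Type u} [SmallCategory C] [HasPullbacks C] {X : C} {J : GrothendieckTopology C}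
  [∀ (n : ℕ) (F : (SimplexCategory.Truncated n)ᵒᵖ ⥤ Limits.FormalCoproduct.{u} (Over X)),
    (SimplexCategory.Truncated.inclusion n).op.HasRightKanExtension F]

theorem pmap_zero_injective (K : SimplicialObject (FormalCoproduct.{u} (Over X)))
    {P Q : Cᵒᵖ ⥤ AddCommGrpCat.{u}} (g : P ⟶ Q) [Mono g] : Function.Injective (pmap K g 0) := by
  haveI : Mono ((cx K).map g) :=
    (shortExact_cx K (S := ShortComplex.mk g (cokernel.π g) (cokernel.condition g))
      { exact := ShortComplex.exact_of_g_is_cokernel _ (cokernelIsCokernel _)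
        mono_f := inferInstance
        epi_g := inferInstance }).mono_f
  haveI : Mono (HomologicalComplex.cyclesMap ((cx K).map g) 0) := by
    haveI : Mono (((cx K).map g).f 0) :=
      inferInstanceAs (Mono ((HomologicalComplex.eval _ _ 0).map ((cx K).map g)))
    haveI : Mono (HomologicalComplex.cyclesMap ((cx K).map g) 0 ≫ HomologicalComplex.iCycles _ 0) := by
      rw [HomologicalComplex.cyclesMap_i]
      infer_instance
    exact mono_of_mono (HomologicalComplex.cyclesMap ((cx K).map g) 0) (HomologicalComplex.iCycles _ 0)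
  refine (AddCommGrpCat.mono_iff_injective _).1 ?_
  haveI : IsIso ((Hyper.cechCx X K P).homologyπ 0) :=
    inferInstanceAs (IsIso (CochainComplex.isoHomologyπ₀ (Hyper.cechCx X K P)).hom)
  haveI : Mono ((Hyper.cechCx X K Q).homologyπ 0) :=
    inferInstanceAs (Mono (CochainComplex.isoHomologyπ₀ (Hyper.cechCx X K Q)).hom)
  haveI : Mono ((Hyper.cechCx X K P).homologyπ 0 ≫ pmap K g 0) := by
    erw [HomologicalComplex.homologyπ_naturality ((cx K).map g) 0]
    exact mono_comp _ _
  exact (mono_comp_iff_of_isIso ((Hyper.cechCx X K P).homologyπ 0) _).1 this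

theorem dies_iff_of_kernel_zero {S : ShortComplex (Cᵒᵖ ⥤ AddCommGrpCat.{u})} (hS : S.ShortExact)
    (h1 : IsZero ((presheafToSheaf J AddCommGrpCat.{u}).obj S.X₁)) (q : ℕ) :
    Dies X J S.X₂ q ↔ Dies X J S.X₃ q := by
  constructor
  · intro h K hK ξ
    obtain ⟨L, f, hL, hf⟩ := dies_of_isZero h1 (q + 1) K hK ((shortExact_cx K hS).δ q (q + 1) rfl ξ)
    have hf' := (cechHMap_δ f hS q ξ).symm.trans hf
    have hex := (shortExact_cx L hS).homology_exact₃ q (q + 1) rfl
    rw [ShortComplex.ab_exact_iff] at hex
    obtain ⟨η, hη⟩ := hex _ hf'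
    obtain ⟨M, g, hM, hg⟩ := h L hL η
    refine ⟨M, g ≫ f, hM, ?_⟩
    refine (cechHMap_comp f g _ q ξ).trans ?_
    refine (congrArg (Hyper.cechHMap X g S.X₃ q) hη.symm).trans ?_
    exact (cechHMap_pmap g S.g q η).trans ((congrArg (pmap M S.g q) hg).trans (map_zero _))
  · intro h K hK ξ
    obtain ⟨L, f, hL, hf⟩ := h K hK (pmap K S.g q ξ)
    have hf' := (cechHMap_pmap f S.g q ξ).symm.trans hf
    have hex := (shortExact_cx L hS).homology_exact₂ q
    rw [ShortComplex.ab_exact_iff] at hex
    obtain ⟨η, hη⟩ := hex _ hf'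
    obtain ⟨M, g, hM, hg⟩ := dies_of_isZero h1 q L hL η
    refine ⟨M, g ≫ f, hM, ?_⟩
    refine (cechHMap_comp f g _ q ξ).trans ?_
    refine (congrArg (Hyper.cechHMap X g S.X₂ q) hη.symm).trans ?_
    exact (cechHMap_pmap g S.f q η).trans ((congrArg (pmap M S.f q) hg).trans (map_zero _))

theorem dies_iff_of_cokernel_zero {S : ShortComplex (Cᵒᵖ ⥤ AddCommGrpCat.{u})} (hS : S.ShortExact)
    (h3 : IsZero ((presheafToSheaf J AddCommGrpCat.{u}).obj S.X₃)) (q : ℕ) :
    Dies X J S.X₁ q ↔ Dies X J S.X₂ q := by
  constructor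
  · intro h K hK ξ
    obtain ⟨L, f, hL, hf⟩ := dies_of_isZero h3 q K hK (pmap K S.g q ξ)
    have hf' := (cechHMap_pmap f S.g q ξ).symm.trans hf
    have hex := (shortExact_cx L hS).homology_exact₂ q
    rw [ShortComplex.ab_exact_iff] at hex
    obtain ⟨η, hη⟩ := hex _ hf'
    obtain ⟨M, g, hM, hg⟩ := h L hL η
    refine ⟨M, g ≫ f, hM, ?_⟩
    refine (cechHMap_comp f g _ q ξ).trans ?_
    refine (congrArg (Hyper.cechHMap X g S.X₂ q) hη.symm).trans ?_
    exact (cechHMap_pmap g S.f q η).trans ((congrArg (pmap M S.f q) hg).trans (map_zero _))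
  · intro h K hK ξ
    obtain ⟨L, f, hL, hf⟩ := h K hK (pmap K S.f q ξ)
    have hf' := (cechHMap_pmap f S.f q ξ).symm.trans hf
    cases q with
    | zero =>
      haveI := hS.mono_f
      exact ⟨L, f, hL, pmap_zero_injective L S.f (hf'.trans (map_zero _).symm)⟩
    | succ p =>
      have hex := (shortExact_cx L hS).homology_exact₁ p (p + 1) rfl
      rw [ShortComplex.ab_exact_iff] at hex
      obtain ⟨η, hη⟩ := hex _ hf'
      obtain ⟨M, g, hM, hg⟩ := dies_of_isZero h3 p L hL η
      refine ⟨M, g ≫ f, hM, ?_⟩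
      refine (cechHMap_comp f g _ (p + 1) ξ).trans ?_
      refine (congrArg (Hyper.cechHMap X g S.X₁ (p + 1)) hη.symm).trans ?_
      exact (cechHMap_δ g hS p η).trans ((congrArg _ hg).trans (map_zero _))

theorem dies_sheafify_iff (G : Cᵒᵖ ⥤ AddCommGrpCat.{u}) (q : ℕ) :
    Dies X J G q ↔ Dies X J ((presheafToSheaf J AddCommGrpCat.{u}).obj G).obj q := by
  let η : G ⟶ ((presheafToSheaf J AddCommGrpCat.{u}).obj G).obj :=
    (sheafificationAdjunction J AddCommGrpCat.{u}).unit.app G
  let a := presheafToSheaf J AddCommGrpCat.{u}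
  haveI : IsIso (sheafificationAdjunction J AddCommGrpCat.{u}).counit := inferInstance
  haveI hiso : IsIso (a.map η) := by
    have h := (sheafificationAdjunction J AddCommGrpCat.{u}).left_triangle_components G
    exact IsIso.of_isIso_fac_right h
  have hfac : a.map (Abelian.factorThruImage η) ≫ a.map (Abelian.image.ι η) = a.map η := by
    rw [← Functor.map_comp, Abelian.image.fac]
  haveI : Mono (a.map (Abelian.factorThruImage η) ≫ a.map (Abelian.image.ι η)) := hfac.symm ▸ inferInstance
  haveI : Epi (a.map (Abelian.factorThruImage η) ≫ a.map (Abelian.image.ι η)) := hfac.symm ▸ inferInstance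
  haveI : Mono (a.map (Abelian.factorThruImage η)) := mono_of_mono _ (a.map (Abelian.image.ι η))
  haveI : Epi (a.map (Abelian.image.ι η)) := epi_of_epi (a.map (Abelian.factorThruImage η)) _
  have h1 : IsZero (a.obj (kernel (Abelian.factorThruImage η))) :=
    (isZero_kernel_of_mono _).of_iso (PreservesKernel.iso a (Abelian.factorThruImage η))
  have h3 : IsZero (a.obj (cokernel (Abelian.image.ι η))) :=
    (isZero_cokernel_of_epi _).of_iso (PreservesCokernel.iso a (Abelian.image.ι η))
  exact (dies_iff_of_kernel_zero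
      (S := ShortComplex.mk (kernel.ι (Abelian.factorThruImage η)) _ (kernel.condition _))
      { exact := ShortComplex.exact_of_f_is_kernel _ (kernelIsKernel _)
        mono_f := inferInstance
        epi_g := inferInstance } h1 q).trans
    (dies_iff_of_cokernel_zero
      (S := ShortComplex.mk (Abelian.image.ι η) (cokernel.π _) (cokernel.condition _))
      { exact := ShortComplex.exact_of_g_is_cokernel _ (cokernelIsCokernel _)
        mono_f := inferInstance
        epi_g := inferInstance } h3 q)

end GrothLib.Hyper25
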