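import Groth.Agent.Lib.Hyper19.Sphere
import Groth.Agent.Lib.Hyper19.Over

/-!
# Hypercoverings from fillings of boundaries
-/

set_option autoImplicit false
set_option backward.isDefEq.respectTransparency false
set_option backward.isDefEq.respectTransparency.types false
set_option linter.unusedSectionVars false

universe u

open CategoryTheory CategoryTheory.Limits Opposite Simplicial
open GrothLib.Hyper19 (fy mkSec secHom secHom_map secHom_rst bijective_mkSec map_mkSec rst_mkSec repr reprIncl incl_hom_ext)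

namespace GrothLib.Hyper25

variable {D : Type u} [SmallCategory D] (K : SimplicialObject (FormalCoproduct.{u} D))

/-- A boundary over an object: compatible sections at all non-surjective maps into a simplex. -/
structure Bdry (n : ℕ) (U : D) where
  s : ∀ {k : SimplexCategory} (φ : k ⟶ ⦋n + 1⦌), ¬ Function.Surjective φ.toOrderHom →
    ((FormalCoproduct.incl D).obj U ⟶ K.obj (op k))
  w : ∀ {k l : SimplexCategory} (ψ : l ⟶ k) (φ : k ⟶ ⦋n + 1⦌) (h : ¬ Function.Surjective φ.toOrderHom)
    (h' : ¬ Function.Surjective (ψ ≫ φ).toOrderHom), s (ψ ≫ φ) h' = s φ h ≫ K.map ψ.op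

variable {K}

theorem not_surj_comp {k l m : SimplexCategory} (ψ : l ⟶ k) (φ : k ⟶ m)
    (h : ¬ Function.Surjective φ.toOrderHom) : ¬ Function.Surjective (ψ ≫ φ).toOrderHom :=
  fun h' => h (Function.Surjective.of_comp (g := ψ.toOrderHom) h')

theorem len_image_le {k : SimplexCategory} {n : ℕ} (φ : k ⟶ ⦋n + 1⦌)
    (h : ¬ Function.Surjective φ.toOrderHom) : (image φ).len ≤ n := by
  have h1 : (image φ).len ≤ n + 1 := SimplexCategory.len_le_of_mono (image.ι φ)
  rcases Nat.lt_or_eq_of_le h1 with h1 | h1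
  · exact Nat.lt_succ_iff.1 h1
  · refine absurd ?_ h
    haveI : IsIso (image.ι φ) := SimplexCategory.isIso_of_bijective
      ((Fintype.bijective_iff_injective_and_card _).2
        ⟨SimplexCategory.mono_iff_injective.1 inferInstance, by simp [h1]⟩)
    haveI : Epi φ := by
      rw [← image.fac φ]
      exact epi_comp _ _
    exact SimplexCategory.epi_iff_surjective.1 inferInstance

section ofFamily

variable {n : ℕ} {U : D}
  (fam : ∀ {k : SimplexCategory}, k.len ≤ n → (k ⟶ ⦋n + 1⦌) → ((FormalCoproduct.incl D).obj U ⟶ K.obj (op k)))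
  (hfam : ∀ {k l : SimplexCategory} (hk : k.len ≤ n) (hl : l.len ≤ n) (ψ : l ⟶ k) (θ : k ⟶ ⦋n + 1⦌),
    fam hl (ψ ≫ θ) = fam hk θ ≫ K.map ψ.op)

include hfam in
theorem fam_factor {k a : SimplexCategory} (φ : k ⟶ ⦋n + 1⦌) (ha : a.len ≤ n) (f : k ⟶ a)
    (θ : a ⟶ ⦋n + 1⦌) (h : f ≫ θ = φ) (hi : (image φ).len ≤ n) :
    fam hi (image.ι φ) ≫ K.map (factorThruImage φ).op = fam ha θ ≫ K.map f.op := by
  have hmono : Mono (image.ι f) := inferInstance
  -- the image of `f` maps onto the image of `φ`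
  let g := image.ι f ≫ θ
  have hfac : (factorThruImage f ≫ factorThruImage g) ≫ image.ι g = φ := by
    rw [Category.assoc, image.fac, ← h]
    exact (image.fac_assoc f θ)
  have hl : (image f).len ≤ n := le_trans (SimplexCategory.len_le_of_mono (image.ι f)) ha
  have he := SimplexCategory.image_eq hfac
  have key : ∀ {b : SimplexCategory} (e : k ⟶ b) [Epi e] (i : b ⟶ ⦋n + 1⦌) [Mono i] (_ : e ≫ i = φ)
      (_ : image φ = b) (hb : b.len ≤ n),
      fam hi (image.ι φ) ≫ K.map (factorThruImage φ).op = fam hb i ≫ K.map e.op := by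
    intro b e _ i _ hei hb' hb
    subst hb'
    rw [SimplexCategory.image_ι_eq hei, SimplexCategory.factorThruImage_eq hei]
  have hg : (image g).len ≤ n := he ▸ hi
  rw [key (factorThruImage f ≫ factorThruImage g) (image.ι g) hfac he hg]
  conv_rhs => rw [← image.fac f, op_comp, K.map_comp, ← Category.assoc, ← hfam ha hl]
  rw [op_comp, K.map_comp, ← Category.assoc, ← hfam hg hl, image.fac]

/-- The boundary given by a family on the simplices of small dimension. -/
noncomputable def Bdry.ofFamily : Bdry K n U where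
  s {k} φ h := fam (len_image_le φ h) (image.ι φ) ≫ K.map (factorThruImage φ).op
  w {k l} ψ φ h h' := by
    rw [fam_factor fam hfam (ψ ≫ φ) (len_image_le φ h) (ψ ≫ factorThruImage φ) (image.ι φ)
      (by rw [Category.assoc, image.fac]) (len_image_le _ h'), op_comp, K.map_comp, Category.assoc]

theorem Bdry.ofFamily_s {k : SimplexCategory} (hk : k.len ≤ n) (θ : k ⟶ ⦋n + 1⦌)
    (h : ¬ Function.Surjective θ.toOrderHom) :
    (Bdry.ofFamily fam hfam).s θ h = fam hk θ := by
  refine (fam_factor fam hfam θ hk (𝟙 k) θ (Category.id_comp θ) (len_image_le θ h)).trans ?_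
  rw [op_id, K.map_id, Category.comp_id]

end ofFamily

variable (J : GrothendieckTopology D)

/-- Every boundary is locally filled. -/
def HasFills (K : SimplicialObject (FormalCoproduct.{u} D)) : Prop :=
  ∀ (n : ℕ) (U : D) (b : Bdry K n U), ∃ S ∈ J U, ∀ ⦃V : D⦄ (g : V ⟶ U), S g →
    ∃ x : (FormalCoproduct.incl D).obj V ⟶ K.obj (op ⦋n + 1⦌),
      ∀ {k : SimplexCategory} (φ : k ⟶ ⦋n + 1⦌) (h : ¬ Function.Surjective φ.toOrderHom),
        x ≫ K.map φ.op = (FormalCoproduct.incl D).map g ≫ b.s φ h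

variable {J}

theorem exists_fill_family (hK : HasFills J K) (n : ℕ) (U : D)
    (fam : ∀ {k : SimplexCategory}, k.len ≤ n → (k ⟶ ⦋n + 1⦌) → ((FormalCoproduct.incl D).obj U ⟶ K.obj (op k)))
    (hfam : ∀ {k l : SimplexCategory} (hk : k.len ≤ n) (hl : l.len ≤ n) (ψ : l ⟶ k) (θ : k ⟶ ⦋n + 1⦌),
      fam hl (ψ ≫ θ) = fam hk θ ≫ K.map ψ.op) :
    ∃ S ∈ J U, ∀ ⦃V : D⦄ (g : V ⟶ U), S g →
      ∃ x : (FormalCoproduct.incl D).obj V ⟶ K.obj (op ⦋n + 1⦌),
        ∀ {k : SimplexCategory} (hk : k.len ≤ n) (θ : k ⟶ ⦋n + 1⦌),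
          x ≫ K.map θ.op = (FormalCoproduct.incl D).map g ≫ fam hk θ := by
  obtain ⟨S, hS, h⟩ := hK n U (Bdry.ofFamily fam hfam)
  refine ⟨S, hS, fun V g hg => ?_⟩
  obtain ⟨x, hx⟩ := h g hg
  refine ⟨x, fun {k} hk θ => ?_⟩
  rw [hx θ (Hyper19.not_surjective_of_len_le hk θ), Bdry.ofFamily_s fam hfam hk θ]

section cosk

variable [∀ (n : ℕ) (F : (SimplexCategory.Truncated n)ᵒᵖ ⥤ Limits.FormalCoproduct.{u} D),
  (SimplexCategory.Truncated.inclusion n).op.HasRightKanExtension F]

/-- The components of a section of the coskeleton. -/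
noncomputable def pr (n : ℕ) (m : SimplexCategory) {k : SimplexCategory} (hk : k.len ≤ n) (θ : k ⟶ m) :
    ((SimplicialObject.Truncated.cosk n).obj ((SimplicialObject.truncation n).obj K)).obj (op m) ⟶ K.obj (op k) :=
  ((SimplicialObject.Truncated.cosk n).obj ((SimplicialObject.truncation n).obj K)).map θ.op ≫
    ((SimplicialObject.coskAdj n).counit.app ((SimplicialObject.truncation n).obj K)).app (op ⟨k, hk⟩)

theorem pr_comp (n : ℕ) (m : SimplexCategory) {k l : SimplexCategory} (hk : k.len ≤ n) (hl : l.len ≤ n)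
    (ψ : l ⟶ k) (θ : k ⟶ m) :
    pr (K := K) n m hl (ψ ≫ θ) = pr n m hk θ ≫ K.map ψ.op := by
  have h := ((SimplicialObject.coskAdj (C := FormalCoproduct.{u} D) n).counit.app
    ((SimplicialObject.truncation n).obj K)).naturality
      (SimplexCategory.Truncated.Hom.tr ψ hl hk).op
  rw [pr, pr, op_comp, Functor.map_comp, Category.assoc, Category.assoc]
  exact congrArg (_ ≫ ·) h

theorem unit_pr (n : ℕ) (m : SimplexCategory) {k : SimplexCategory} (hk : k.len ≤ n) (θ : k ⟶ m) :
    ((SimplicialObject.coskAdj n).unit.app K).app (op m) ≫ pr n m hk θ = K.map θ.op := by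
  rw [pr]
  refine ((Category.assoc _ _ _).symm.trans (congrArg (· ≫ _)
    (((SimplicialObject.coskAdj n).unit.app K).naturality θ.op).symm)).trans ?_
  have tri : ((SimplicialObject.coskAdj n).unit.app K).app (op k) ≫
      ((SimplicialObject.coskAdj n).counit.app ((SimplicialObject.truncation n).obj K)).app (op ⟨k, hk⟩) = 𝟙 _ :=
    congrArg (fun t => NatTrans.app t (op (⟨k, hk⟩ : SimplexCategory.Truncated n)))
      ((SimplicialObject.coskAdj n).left_triangle_components K)
  rw [Category.assoc]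
  exact (congrArg (K.map θ.op ≫ ·) tri).trans (Category.comp_id _)

/-- The components of the map from a representable simplicial object. -/
noncomputable def reprLiftApp {U : D} {L : SimplicialObject (FormalCoproduct.{u} D)} {m : ℕ}
    (a : (FormalCoproduct.incl D).obj U ⟶ L.obj (op ⦋m⦌)) (j : SimplexCategoryᵒᵖ) :
    (Hyper19.repr U m).obj j ⟶ L.obj j where
  f θ := (a ≫ L.map θ.down.op).f PUnit.unit
  φ θ := (a ≫ L.map θ.down.op).φ PUnit.unit

theorem reprIncl_reprLiftApp {U : D} {L : SimplicialObject (FormalCoproduct.{u} D)} {m : ℕ}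
    (a : (FormalCoproduct.incl D).obj U ⟶ L.obj (op ⦋m⦌)) {j : SimplexCategoryᵒᵖ} (θ : j.unop ⟶ ⦋m⦌) :
    reprIncl U m θ ≫ reprLiftApp a j = a ≫ L.map θ.op := by
  refine FormalCoproduct.hom_ext rfl fun i => ?_
  simp [reprIncl, reprLiftApp]
  exact (Category.id_comp _)

/-- The map from a representable simplicial object given by a simplex. -/
noncomputable def reprLift {U : D} {L : SimplicialObject (FormalCoproduct.{u} D)} {m : ℕ}
    (a : (FormalCoproduct.incl D).obj U ⟶ L.obj (op ⦋m⦌)) : Hyper19.repr U m ⟶ L where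
  app j := reprLiftApp a j
  naturality k l ψ := by
    refine incl_hom_ext fun θ => ?_
    have hr : reprIncl U m θ ≫ (Hyper19.repr U m).map ψ = reprIncl U m (ψ.unop ≫ θ) :=
      FormalCoproduct.hom_ext rfl fun i => by simp [reprIncl, Hyper19.repr]
    rw [← Category.assoc, hr, reprIncl_reprLiftApp, ← Category.assoc, reprIncl_reprLiftApp, Category.assoc]
    exact congrArg (a ≫ ·) (L.map_comp θ.op ψ)

theorem reprIncl_reprLift {U : D} {L : SimplicialObject (FormalCoproduct.{u} D)} {m : ℕ}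
    (a : (FormalCoproduct.incl D).obj U ⟶ L.obj (op ⦋m⦌)) {j : SimplexCategoryᵒᵖ} (θ : j.unop ⟶ ⦋m⦌) :
    reprIncl U m θ ≫ (reprLift a).app j = a ≫ L.map θ.op :=
  reprIncl_reprLiftApp a θ

theorem pr_ext {n m : ℕ} {U : D}
    {a b : (FormalCoproduct.incl D).obj U ⟶
      ((SimplicialObject.Truncated.cosk n).obj ((SimplicialObject.truncation n).obj K)).obj (op ⦋m⦌)}
    (h : ∀ {k : SimplexCategory} (hk : k.len ≤ n) (θ : k ⟶ ⦋m⦌), a ≫ pr n ⦋m⦌ hk θ = b ≫ pr n ⦋m⦌ hk θ) :
    a = b := by
  have hab : reprLift a = reprLift b := by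
    apply ((SimplicialObject.coskAdj n).homEquiv _ _).symm.injective
    rw [Adjunction.homEquiv_counit, Adjunction.homEquiv_counit]
    ext1
    ext1 k
    refine incl_hom_ext (k := op k.unop.obj) fun θ => ?_
    change reprIncl U m θ ≫ (reprLift a).app (op k.unop.obj) ≫ _ =
      reprIncl U m θ ≫ (reprLift b).app (op k.unop.obj) ≫ _
    rw [← Category.assoc, ← Category.assoc, reprIncl_reprLift, reprIncl_reprLift, Category.assoc,
      Category.assoc]
    exact h k.unop.property θ
  have h2 := congrArg (fun t => reprIncl U m (k := op ⦋m⦌) (𝟙 ⦋m⦌) ≫ NatTrans.app t (op ⦋m⦌)) hab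
  simp only [reprIncl_reprLift, op_id] at h2
  rwa [CategoryTheory.Functor.map_id, Category.comp_id, Category.comp_id] at h2

theorem isLocallySurjective_unit (hK : HasFills J K) (n : ℕ) :
    Presheaf.IsLocallySurjective J (FormalCoproduct.yoneda.map
      (((SimplicialObject.coskAdj n).unit.app K).app (op ⦋n + 1⦌))) where
  imageSieve_mem {U} s := by
    let a := secHom _ U s
    obtain ⟨S, hS, h⟩ := exists_fill_family hK n U (fun {k} hk θ => a ≫ pr n _ hk θ)
      (fun {k l} hk hl ψ θ => by rw [pr_comp n _ hk hl, Category.assoc])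
    refine J.superset_covering (fun V g hg => ?_) hS
    obtain ⟨x, hx⟩ := h g hg
    refine ⟨(secHom _ V).symm x, (secHom _ V).injective ?_⟩
    rw [secHom_map, secHom_rst, Equiv.apply_symm_apply]
    refine pr_ext fun {k} hk θ => ?_
    rw [Category.assoc, unit_pr, Category.assoc]
    exact hx hk θ

theorem isSRCovering_of_isLocallySurjective {A B : FormalCoproduct.{u} D} (f : A ⟶ B)
    [Presheaf.IsLocallySurjective J (FormalCoproduct.yoneda.map f)] : Hyper.IsSRCovering J f := fun j => by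
  refine J.superset_covering (fun V g hg => ?_)
    (Presheaf.imageSieve_mem J (U := op (B.obj j)) (FormalCoproduct.yoneda.map f) (mkSec B j (𝟙 _)))
  obtain ⟨t, ht⟩ := hg
  obtain ⟨⟨i, k⟩, rfl⟩ := (bijective_mkSec A V).2 t
  have e : mkSec B (f.f i) (k ≫ f.φ i) = mkSec B j (g ≫ 𝟙 _) :=
    (map_mkSec f i k).symm.trans (ht.trans (rst_mkSec B g j (𝟙 _)))
  obtain ⟨h1, h2⟩ := Sigma.mk.inj_iff.1
    ((bijective_mkSec B V).1 (a₁ := ⟨f.f i, k ≫ f.φ i⟩) (a₂ := ⟨j, g ≫ 𝟙 _⟩) e)
  subst h1
  refine ⟨_, k, _, Presieve.ofArrows.mk (⟨i, rfl⟩ : {i' : A.I // f.f i' = f.f i}), ?_⟩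
  simpa using eq_of_heq h2

/-- A simplicial object with enough vertices and fillings is a hypercovering of the final object. -/
theorem isHypercoveringSite (hK : HasFills J K)
    (hpt : ∀ U : D, ∃ S ∈ J U, ∀ ⦃V : D⦄ (g : V ⟶ U), S g →
      Nonempty ((FormalCoproduct.incl D).obj V ⟶ K.obj (op ⦋0⦌))) :
    Hyper.IsHypercoveringSite J K := by
  refine ⟨⟨fun {U} s => ?_⟩, ⟨fun {U} z => ?_⟩, fun n _ => isLocallySurjective_unit hK n⟩
  · obtain ⟨S, hS, h⟩ := hpt U
    refine J.superset_covering (fun V g hg => ?_) hS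
    refine ⟨(secHom _ V).symm (h g hg).some, ?_⟩
    apply yonedaEquiv.symm.injective
    exact terminal.hom_ext _ _
  · let K0 := K.obj (op ⦋0⦌)
    let b := (prod.fst : fy K0 ⨯ fy K0 ⟶ _).app (op U) z
    let a := (prod.snd : fy K0 ⨯ fy K0 ⟶ _).app (op U) z
    obtain ⟨S, hS, h⟩ := exists_fill_family hK 0 U
      (fun {k} _ θ => secHom K0 U (if θ.toOrderHom 0 = (0 : Fin 2) then b else a) ≫
        K.map (SimplexCategory.const k ⦋0⦌ 0).op)
      (fun {k l} hk hl ψ θ => by
        have : Subsingleton (Fin (k.len + 1)) := Fin.subsingleton_iff_le_one.2 (by omega)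
        have h0 : (ψ ≫ θ).toOrderHom 0 = θ.toOrderHom 0 := congrArg θ.toOrderHom (Subsingleton.elim _ _)
        rw [h0, Category.assoc]
        refine congrArg (secHom K0 U _ ≫ ·) ?_
        rw [← K.map_comp, ← op_comp]
        exact congrArg (fun t : l ⟶ ⦋0⦌ => K.map t.op)
          (SimplexCategory.Hom.ext _ _ (OrderHom.ext _ _ (funext fun _ => Subsingleton.elim (α := Fin 1) _ _))))
    refine J.superset_covering (fun W g hg => ?_) hS
    obtain ⟨x, hx⟩ := h g hg
    let x' := (secHom (K.obj (op ⦋1⦌)) W).symm x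
    have hid : SimplexCategory.const ⦋0⦌ ⦋0⦌ 0 = 𝟙 ⦋0⦌ :=
      SimplexCategory.Hom.ext _ _ (OrderHom.ext _ _ (funext fun _ => Subsingleton.elim (α := Fin 1) _ _))
    have hface : ∀ (i : Fin 2) (c : (fy K0).obj (op U)),
        (if (SimplexCategory.δ i).toOrderHom 0 = (0 : Fin 2) then b else a) = c →
        (FormalCoproduct.yoneda.map (K.δ i)).app (op W) x' = (fy K0).map g.op c := by
      intro i c hc
      apply (secHom K0 W).injective
      rw [secHom_map, secHom_rst, Equiv.apply_symm_apply]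
      refine (hx (k := ⦋0⦌) le_rfl (SimplexCategory.δ i)).trans ?_
      rw [hc, hid, op_id, K.map_id, Category.comp_id]
    refine ⟨x', Hyper19.prod_sec_ext ?_ ?_⟩
    · refine ((congrArg (fun t : fy (K.obj (op ⦋1⦌)) ⟶ fy K0 => t.app (op W) x')
        (prod.lift_fst (FormalCoproduct.yoneda.map (K.δ (1 : Fin 2))) (FormalCoproduct.yoneda.map (K.δ (0 : Fin 2))))).trans ?_)
      exact (hface 1 b (if_pos rfl)).trans (NatTrans.naturality_apply (prod.fst : fy K0 ⨯ fy K0 ⟶ _) g.op z).symm
    · refine ((congrArg (fun t : fy (K.obj (op ⦋1⦌)) ⟶ fy K0 => t.app (op W) x')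
        (prod.lift_snd (FormalCoproduct.yoneda.map (K.δ (1 : Fin 2))) (FormalCoproduct.yoneda.map (K.δ (0 : Fin 2))))).trans ?_)
      exact (hface 0 a (if_neg (fun h => absurd (show (1 : Fin 2) = 0 from h) (by decide)))).trans
        (NatTrans.naturality_apply (prod.snd : fy K0 ⨯ fy K0 ⟶ _) g.op z).symm

end cosk

section over

variable {C : Type u} [SmallCategory C] {J : GrothendieckTopology C} {X : C}
  {K : SimplicialObject (FormalCoproduct.{u} (Over X))}
  [∀ (n : ℕ) (F : (SimplexCategory.Truncated n)ᵒᵖ ⥤ Limits.FormalCoproduct.{u} (Over X)),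
    (SimplexCategory.Truncated.inclusion n).op.HasRightKanExtension F]

/-- A simplicial object over `X` with enough vertices and fillings is a hypercovering of `X`. -/
theorem isHypercovering (hK : HasFills (J.over X) K)
    (hpt : ∃ S ∈ J X, ∀ ⦃V : C⦄ (g : V ⟶ X), S g →
      Nonempty ((FormalCoproduct.incl (Over X)).obj (Over.mk g) ⟶ K.obj (op ⦋0⦌))) :
    Hyper.IsHypercovering J X K := by
  refine ⟨?_, fun n => ?_⟩
  · obtain ⟨S, hS, h⟩ := hpt
    refine J.superset_covering (fun V g hg => ?_) hS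
    obtain ⟨a⟩ := h g hg
    exact ⟨_, (a.φ PUnit.unit).left, _, Presieve.ofArrows.mk (a.f PUnit.unit), Over.w (a.φ PUnit.unit)⟩
  · haveI := isLocallySurjective_unit (J := J.over X) hK n
    exact isSRCovering_of_isLocallySurjective _

end over

end GrothLib.Hyper25
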