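import Groth.Agent.Lib.Hyper25.Fills
import Mathlib.AlgebraicTopology.SimplicialSet.Finite

/-!
# Extending compatible families over finite simplicial sets
-/

set_option autoImplicit false
set_option backward.isDefEq.respectTransparency false
set_option backward.isDefEq.respectTransparency.types false
set_option linter.unusedSectionVars false

universe u

open CategoryTheory CategoryTheory.Limits Opposite Simplicial

namespace GrothLib.Hyper25

variable {D : Type u} [SmallCategory D] (L : SimplicialObject (FormalCoproduct.{u} D)) (Z : SSet.{0})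

/-- The operation of a map of simplices on a simplicial set. -/
abbrev zact {k l : SimplexCategory} (ψ : l ⟶ k) (z : Z.obj (op k)) : Z.obj (op l) := Z.map ψ.op z

theorem zact_zact {k l m : SimplexCategory} (ψ : l ⟶ k) (χ : m ⟶ l) (z : Z.obj (op k)) :
    zact Z χ (zact Z ψ z) = zact Z (χ ≫ ψ) z :=
  (Z.map_comp_apply ψ.op χ.op z).symm

theorem zact_id {k : SimplexCategory} (z : Z.obj (op k)) : zact Z (𝟙 k) z = z :=
  Z.map_id_apply (op k) z

/-- A compatible family on some of the simplices. -/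
structure PFam (A : ∀ k : SimplexCategory, Z.obj (op k) → Prop) (V : D) where
  val : ∀ {k : SimplexCategory} (z : Z.obj (op k)), A k z → ((FormalCoproduct.incl D).obj V ⟶ L.obj (op k))
  nat : ∀ {k l : SimplexCategory} (ψ : l ⟶ k) (z : Z.obj (op k)) (h : A k z) (h' : A l (zact Z ψ z)),
    val (zact Z ψ z) h' = val z h ≫ L.map ψ.op

variable {L Z} (A : ∀ k : SimplexCategory, Z.obj (op k) → Prop)

/-- The simplices in `A` or of small dimension. -/
def InSk (d : ℕ) (k : SimplexCategory) (z : Z.obj (op k)) : Prop :=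
  A k z ∨ ∃ (m : ℕ) (_ : m < d) (f : k ⟶ ⦋m⦌) (y : Z _⦋m⦌), zact Z f y = z

variable {A} (hA : ∀ {k l : SimplexCategory} (ψ : l ⟶ k) (z : Z.obj (op k)), A k z → A l (zact Z ψ z))

include hA in
theorem inSk_zact {d : ℕ} {k l : SimplexCategory} (ψ : l ⟶ k) (z : Z.obj (op k)) (h : InSk A d k z) :
    InSk A d l (zact Z ψ z) := by
  rcases h with h | ⟨m, hm, f, y, rfl⟩
  · exact Or.inl (hA ψ z h)
  · exact Or.inr ⟨m, hm, ψ ≫ f, y, (zact_zact Z f ψ y).symm⟩

include hA in
theorem exists_of_not_inSk {d : ℕ} {k : SimplexCategory} (z : Z.obj (op k)) (hz : InSk A (d + 1) k z)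
    (hn : ¬ InSk A d k z) :
    ∃ (f : k ⟶ ⦋d⦌) (y : Z _⦋d⦌), Epi f ∧ ¬ InSk A d ⦋d⦌ y ∧ zact Z f y = z := by
  rcases hz with hz | ⟨m, hm, f, y, rfl⟩
  · exact absurd (Or.inl hz) hn
  · rcases Nat.lt_or_eq_of_le (Nat.lt_succ_iff.1 hm) with hm | rfl
    · exact absurd (Or.inr ⟨m, hm, f, y, rfl⟩) hn
    · refine ⟨f, y, ?_, fun h => hn (inSk_zact hA f y h), rfl⟩
      have hle := SimplexCategory.len_le_of_mono (image.ι f)
      rcases Nat.lt_or_eq_of_le hle with hlt | heq
      · refine absurd ?_ hn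
        refine Or.inr ⟨(image f).len, hlt, factorThruImage f, zact Z (image.ι f) y, ?_⟩
        exact (zact_zact Z (image.ι f) (factorThruImage f) y).trans
          (congrArg (fun t => zact Z t y) (image.fac f))
      · haveI : IsIso (image.ι f) := SimplexCategory.isIso_of_bijective
          ((Fintype.bijective_iff_injective_and_card _).2
            ⟨SimplexCategory.mono_iff_injective.1 inferInstance, by simp [heq]⟩)
        rw [← image.fac f]
        exact epi_comp _ _

include hA in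
theorem nonDegenerate_of_not_inSk {d : ℕ} (y : Z _⦋d⦌) (hy : ¬ InSk A d ⦋d⦌ y) : y ∈ Z.nonDegenerate d := by
  rintro ⟨m, hm, f, x, hx⟩
  exact hy (Or.inr ⟨m, hm, f, x, hx⟩)

include hA in
theorem unique_of_not_inSk {d : ℕ} {k : SimplexCategory} {f f' : k ⟶ ⦋d⦌} [Epi f] {y y' : Z _⦋d⦌}
    (hy : ¬ InSk A d ⦋d⦌ y) (hy' : ¬ InSk A d ⦋d⦌ y') (h : zact Z f y = zact Z f' y') : f = f' ∧ y = y' := by
  induction k using SimplexCategory.rec with
  | _ n =>
    exact ⟨Z.unique_nonDegenerate_map (zact Z f y) f ⟨y, nonDegenerate_of_not_inSk hA y hy⟩ rfl f'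
        ⟨y', nonDegenerate_of_not_inSk hA y' hy'⟩ h,
      congrArg Subtype.val (Z.unique_nonDegenerate_simplex (zact Z f y) f ⟨y, nonDegenerate_of_not_inSk hA y hy⟩ rfl f'
        ⟨y', nonDegenerate_of_not_inSk hA y' hy'⟩ h)⟩

variable {J : GrothendieckTopology D}

include hA in
theorem exists_extension_step (hL : HasFills J L) [Z.Finite] (n : ℕ) {V : D} (H : PFam L Z (InSk A (n + 1)) V) :
    ∃ S ∈ J V, ∀ ⦃W : D⦄ (e : W ⟶ V), S e → ∃ H' : PFam L Z (InSk A (n + 2)) W,
      ∀ {k : SimplexCategory} (z : Z.obj (op k)) (h : InSk A (n + 1) k z) (h' : InSk A (n + 2) k z),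
        H'.val z h' = (FormalCoproduct.incl D).map e ≫ H.val z h := by
  classical
  have hb : ∀ (y : Z _⦋n + 1⦌) {k : SimplexCategory} (φ : k ⟶ ⦋n + 1⦌),
      ¬ Function.Surjective φ.toOrderHom → InSk A (n + 1) k (zact Z φ y) := fun y {k} φ hφ =>
    Or.inr ⟨(image φ).len, Nat.lt_succ_iff.2 (len_image_le φ hφ), factorThruImage φ, zact Z (image.ι φ) y,
      (zact_zact Z (image.ι φ) (factorThruImage φ) y).trans (congrArg (fun t => zact Z t y) (image.fac φ))⟩
  let bd : Z _⦋n + 1⦌ → Bdry L n V := fun y =>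
    { s := fun φ h => H.val (zact Z φ y) (hb y φ h)
      w := fun {k l} ψ φ h h' => by
        have e := H.nat ψ (zact Z φ y) (hb y φ h) (inSk_zact hA ψ _ (hb y φ h))
        refine Eq.trans ?_ e
        congr 1
        exact (zact_zact Z φ ψ y).symm }
  obtain ⟨S, hS, hS'⟩ := exists_cover_all (J := J)
    (fun (y : Z _⦋n + 1⦌) W (e : W ⟶ V) => ∃ x : (FormalCoproduct.incl D).obj W ⟶ L.obj (op ⦋n + 1⦌),
      ∀ {k : SimplexCategory} (φ : k ⟶ ⦋n + 1⦌) (h : ¬ Function.Surjective φ.toOrderHom),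
        x ≫ L.map φ.op = (FormalCoproduct.incl D).map e ≫ (bd y).s φ h)
    fun y => hL n V (bd y)
  refine ⟨S, hS, fun W e he => ?_⟩
  choose x hx using hS' e he
  have key : ∀ {k : SimplexCategory} (z : Z.obj (op k)), InSk A (n + 2) k z → ¬ InSk A (n + 1) k z →
      ∃ p : (k ⟶ ⦋n + 1⦌) × Z _⦋n + 1⦌, Epi p.1 ∧ ¬ InSk A (n + 1) ⦋n + 1⦌ p.2 ∧ zact Z p.1 p.2 = z :=
    fun z hz hn => by
      obtain ⟨f, y, h1, h2, h3⟩ := exists_of_not_inSk hA z hz hn
      exact ⟨(f, y), h1, h2, h3⟩
  refine ⟨{ val := fun {k} z hz => if h : InSk A (n + 1) k z then (FormalCoproduct.incl D).map e ≫ H.val z h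
              else x (key z hz h).choose.2 ≫ L.map (key z hz h).choose.1.op
            nat := fun {k l} ψ z hz hz' => ?_ }, fun z h h' => by simp [h]⟩
  by_cases h : InSk A (n + 1) k z
  · rw [dif_pos h, dif_pos (inSk_zact hA ψ z h), H.nat ψ z h, Category.assoc]
  · rw [dif_neg h]
    obtain ⟨h1, h2, h3⟩ := (key z hz h).choose_spec
    generalize (key z hz h).choose = p at h1 h2 h3 ⊢
    obtain ⟨f, y⟩ := p
    have hzψ : zact Z ψ z = zact Z (ψ ≫ f) y := by rw [← h3, zact_zact]
    rw [Category.assoc, ← L.map_comp, ← op_comp]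
    by_cases h' : InSk A (n + 1) l (zact Z ψ z)
    · rw [dif_pos h']
      have hns : ¬ Function.Surjective (ψ ≫ f).toOrderHom := fun hs => h2 <| by
        haveI : Epi (ψ ≫ f) := SimplexCategory.epi_iff_surjective.2 hs
        obtain ⟨⟨s⟩⟩ := isSplitEpi_of_epi (ψ ≫ f)
        have e := inSk_zact hA s.section_ _ h'
        rw [hzψ, zact_zact, s.id, zact_id] at e
        exact e
      rw [hx y (ψ ≫ f) hns]
      refine congrArg (_ ≫ ·) ?_
      change H.val (zact Z ψ z) h' = H.val (zact Z (ψ ≫ f) y) _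
      congr 1
    · rw [dif_neg h']
      obtain ⟨g1, g2, g3⟩ := (key (zact Z ψ z) hz' h').choose_spec
      generalize (key (zact Z ψ z) hz' h').choose = q at g1 g2 g3 ⊢
      obtain ⟨f', y'⟩ := q
      haveI : Epi f' := g1
      obtain ⟨rfl, rfl⟩ := unique_of_not_inSk hA g2 h2 (g3.trans hzψ)
      rfl

/-- A compatible family extends locally over a finite simplicial set. -/
theorem exists_extension (hA₀ : ∀ z : Z _⦋0⦌, A ⦋0⦌ z) (hA' : ∀ {k l : SimplexCategory} (ψ : l ⟶ k) (z : Z.obj (op k)),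
    A k z → A l (zact Z ψ z)) (hL : HasFills J L) [Z.Finite] {U : D} (a : PFam L Z A U) :
    ∃ S ∈ J U, ∀ ⦃V : D⦄ (g : V ⟶ U), S g →
      ∃ H : ∀ {k : SimplexCategory}, Z.obj (op k) → ((FormalCoproduct.incl D).obj V ⟶ L.obj (op k)),
        (∀ {k l : SimplexCategory} (ψ : l ⟶ k) (z : Z.obj (op k)), H (zact Z ψ z) = H z ≫ L.map ψ.op) ∧
        ∀ {k : SimplexCategory} (z : Z.obj (op k)) (h : A k z),
          H z = (FormalCoproduct.incl D).map g ≫ a.val z h := by
  obtain ⟨d, _⟩ := Z.hasDimensionLT_of_finite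
  have main : ∀ m : ℕ, ∃ S ∈ J U, ∀ ⦃V : D⦄ (g : V ⟶ U), S g → ∃ H : PFam L Z (InSk A (m + 1)) V,
      ∀ {k : SimplexCategory} (z : Z.obj (op k)) (h : A k z),
        H.val z (Or.inl h) = (FormalCoproduct.incl D).map g ≫ a.val z h := by
    intro m
    induction m with
    | zero =>
      have h0 : ∀ {k : SimplexCategory} (z : Z.obj (op k)), InSk A 1 k z → A k z := by
        rintro k z (h | ⟨m, hm, f, y, rfl⟩)
        · exact h
        · obtain rfl : m = 0 := by omega
          exact hA' f y (hA₀ y)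
      exact ⟨⊤, J.top_mem U, fun V g _ => ⟨{ val := fun z h => (FormalCoproduct.incl D).map g ≫ a.val z (h0 z h)
                                             nat := fun ψ z h h' => by rw [a.nat ψ z (h0 z h), Category.assoc] },
        fun z h => rfl⟩⟩
    | succ m ih =>
      obtain ⟨S, hS, hS'⟩ := ih
      let R : Sieve U :=
        { arrows := fun V g => ∃ H : PFam L Z (InSk A (m + 2)) V, ∀ {k : SimplexCategory} (z : Z.obj (op k))
            (h : A k z), H.val z (Or.inl h) = (FormalCoproduct.incl D).map g ≫ a.val z h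
          downward_closed := by
            rintro V W g ⟨H, hH⟩ e
            refine ⟨{ val := fun z h => (FormalCoproduct.incl D).map e ≫ H.val z h
                      nat := fun ψ z h h' => by rw [H.nat ψ z h, Category.assoc] }, fun z h => ?_⟩
            change (FormalCoproduct.incl D).map e ≫ H.val z _ = _
            rw [hH z h, Functor.map_comp, Category.assoc] }
      refine ⟨R, J.transitive hS R fun V g hg => ?_, fun V g hg => hg⟩
      obtain ⟨H, hH⟩ := hS' g hg
      obtain ⟨T, hT, hT'⟩ := exists_extension_step hA' hL m H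
      refine J.superset_covering (fun W e he => ?_) hT
      obtain ⟨H', hH'⟩ := hT' e he
      refine ⟨H', fun z h => ?_⟩
      rw [hH' z (Or.inl h), hH z h, Functor.map_comp, Category.assoc]
  obtain ⟨S, hS, hS'⟩ := main d
  have hall : ∀ {k : SimplexCategory} (z : Z.obj (op k)), InSk A (d + 1) k z := fun {k} z => by
    induction k using SimplexCategory.rec with
    | _ n =>
      obtain ⟨m, f, _, y, hy⟩ := Z.exists_nonDegenerate z
      exact Or.inr ⟨m, (Z.dim_lt_of_nonDegenerate y d).trans (Nat.lt_succ_self d), f, y.1, hy.symm⟩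
  refine ⟨S, hS, fun V g hg => ?_⟩
  obtain ⟨H, hH⟩ := hS' g hg
  exact ⟨fun z => H.val z (hall z), fun ψ z => H.nat ψ z (hall z) _, fun z h => hH z h⟩

end GrothLib.Hyper25
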