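import Groth.Agent.Lib.Hyper25.Criterion

/-!
# Fillings in a hypercovering
-/

set_option autoImplicit false
set_option backward.isDefEq.respectTransparency false
set_option backward.isDefEq.respectTransparency.types false
set_option linter.unusedSectionVars false

universe u

open CategoryTheory CategoryTheory.Limits Opposite Simplicial

namespace GrothLib.Hyper25

variable {D : Type u} [SmallCategory D] {J : GrothendieckTopology D}

/-- Finitely many covering conditions can be imposed at once. -/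
theorem exists_cover_all {ι : Type*} [Finite ι] {U : D} (P : ι → ∀ ⦃V : D⦄, (V ⟶ U) → Prop)
    (h : ∀ i, ∃ S ∈ J U, ∀ ⦃V : D⦄ (g : V ⟶ U), S g → P i g) :
    ∃ S ∈ J U, ∀ ⦃V : D⦄ (g : V ⟶ U), S g → ∀ i, P i g := by
  classical
  choose S hS hP using h
  haveI := Fintype.ofFinite ι
  have key : ∀ t : Finset ι, ∃ R ∈ J U, ∀ ⦃V : D⦄ (g : V ⟶ U), R g → ∀ i ∈ t, P i g := by
    intro t
    induction t using Finset.induction_on with
    | empty => exact ⟨⊤, J.top_mem U, fun V g _ i hi => absurd hi (Finset.notMem_empty i)⟩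
    | @insert a t _ ih =>
      obtain ⟨R, hR, hR'⟩ := ih
      refine ⟨S a ⊓ R, J.intersection_covering (hS a) hR, fun V g hg i hi => ?_⟩
      rcases Finset.mem_insert.1 hi with rfl | hi
      · exact hP _ g hg.1
      · exact hR' g hg.2 i hi
  obtain ⟨R, hR, hR'⟩ := key Finset.univ
  exact ⟨R, hR, fun V g hg i => hR' g hg i (Finset.mem_univ i)⟩

section

variable {K : SimplicialObject (FormalCoproduct.{u} D)}
  [∀ (n : ℕ) (F : (SimplexCategory.Truncated n)ᵒᵖ ⥤ Limits.FormalCoproduct.{u} D),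
    (SimplexCategory.Truncated.inclusion n).op.HasRightKanExtension F]

/-- Where the comparisons with the coskeleta are locally surjective, boundaries are filled. -/
theorem hasFills_of_isLocallySurjective
    (hK : ∀ n : ℕ, Presheaf.IsLocallySurjective J (FormalCoproduct.yoneda.map
      (((SimplicialObject.coskAdj n).unit.app K).app (op ⦋n + 1⦌)))) : HasFills J K := by
  intro n U b
  obtain ⟨S, hS, h⟩ := Hyper19.exists_fill_of_family K n (hK n) U
    (fun {k} hk θ => b.s θ (Hyper19.not_surjective_of_len_le hk θ))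
    (fun {k l} hk hl ψ θ => b.w ψ θ _ _)
  refine ⟨S, hS, fun V g hg => ?_⟩
  obtain ⟨x, hx⟩ := h g hg
  refine ⟨Hyper19.secHom (K.obj (op ⦋n + 1⦌)) V x, fun {k} φ hφ => ?_⟩
  obtain ⟨i, ψ, rfl⟩ := SimplexCategory.eq_comp_δ_of_not_surjective φ hφ
  have hi : ¬ Function.Surjective (SimplexCategory.δ i).toOrderHom :=
    Hyper19.not_surjective_of_len_le (k := ⦋n⦌) le_rfl _
  rw [b.w ψ (SimplexCategory.δ i) hi hφ, op_comp, K.map_comp, ← Category.assoc, ← Category.assoc]
  exact congrArg (· ≫ K.map ψ.op) ((Hyper19.secHom_map (K.map (SimplexCategory.δ i).op) x).symm.trans (hx i))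

end

section over

variable {C : Type u} [SmallCategory C] {J : GrothendieckTopology C} {X : C}
  {K : SimplicialObject (FormalCoproduct.{u} (Over X))}
  [∀ (n : ℕ) (F : (SimplexCategory.Truncated n)ᵒᵖ ⥤ Limits.FormalCoproduct.{u} (Over X)),
    (SimplexCategory.Truncated.inclusion n).op.HasRightKanExtension F]

theorem hasFills_of_isHypercovering (hK : Hyper.IsHypercovering J X K) : HasFills (J.over X) K :=
  hasFills_of_isLocallySurjective fun n => Hyper19.isLocallySurjective_of_isSRCovering _ (hK.2 n)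

theorem vertex_of_isHypercovering (hK : Hyper.IsHypercovering J X K) :
    ∃ S ∈ J X, ∀ ⦃V : C⦄ (g : V ⟶ X), S g →
      Nonempty ((FormalCoproduct.incl (Over X)).obj (Over.mk g) ⟶ K.obj (op ⦋0⦌)) := by
  refine ⟨_, hK.1, ?_⟩
  rintro V g ⟨_, h, _, ⟨i⟩, hh⟩
  exact ⟨FormalCoproduct.Hom.fromIncl i (Over.homMk h hh)⟩

theorem exists_lift_of_isSRCovering {A B : FormalCoproduct.{u} D} {J' : GrothendieckTopology D} (u : A ⟶ B)
    (hu : Hyper.IsSRCovering J' u) {U : D} (y : (FormalCoproduct.incl D).obj U ⟶ B) :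
    ∃ S ∈ J' U, ∀ ⦃V : D⦄ (g : V ⟶ U), S g →
      ∃ z : (FormalCoproduct.incl D).obj V ⟶ A, z ≫ u = (FormalCoproduct.incl D).map g ≫ y := by
  haveI := Hyper19.isLocallySurjective_of_isSRCovering u hu
  refine ⟨_, Presheaf.imageSieve_mem J' (U := op U) (FormalCoproduct.yoneda.map u)
    ((Hyper19.secHom B U).symm y), fun V g hg => ?_⟩
  obtain ⟨t, ht⟩ := hg
  refine ⟨Hyper19.secHom A V t, ?_⟩
  have := congrArg (Hyper19.secHom B V) ht
  rwa [Hyper19.secHom_map, Hyper19.secHom_rst, Equiv.apply_symm_apply] at this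

end over

end GrothLib.Hyper25
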