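import Groth.Agent.Lib.Hyper25.Universal
import Mathlib.CategoryTheory.Limits.Constructions.LimitsOfProductsAndEqualizers
import Mathlib.CategoryTheory.Comma.Over.Pullback
import Mathlib.CategoryTheory.FinCategory.Basic

/-!
# Hypercoverings by finite families in a covering class
-/

set_option autoImplicit false
set_option backward.isDefEq.respectTransparency false
set_option backward.isDefEq.respectTransparency.types false
set_option linter.unusedSectionVars false

universe u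

open CategoryTheory CategoryTheory.Limits Opposite Simplicial

attribute [local semireducible] SimplexCategory.Hom

namespace GrothLib.Hyper25

variable {D : Type u} [SmallCategory D] {B : Set D}

section sub

variable (S : ∀ a : SimplexCategory, Set (Diag B a))
  (hS : ∀ {a b : SimplexCategory} (θ : b ⟶ a) (A : Diag B a), A ∈ S a → A.pull θ ∈ S b)

/-- The simplicial object of the diagrams in a set closed under pullbacks. -/
def subUniv : SimplicialObject (FormalCoproduct.{u} D) where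
  obj a := ⟨{A : Diag B a.unop // A ∈ S a.unop}, fun A => A.1.top⟩
  map θ := ⟨fun A => ⟨A.1.pull θ.unop, hS θ.unop A.1 A.2⟩, fun A => A.1.toPull θ.unop⟩
  map_id a := FormalCoproduct.hom_ext rfl fun A => by
    simp only [eqToHom_refl, Category.comp_id]
    exact A.1.map_id (𝟙 a.unop)
  map_comp {a b c} θ θ' := FormalCoproduct.hom_ext rfl fun A => by
    simp only [eqToHom_refl, Category.comp_id]
    exact A.1.map_comp θ'.unop θ.unop (𝟙 a.unop)

/-- Its inclusion into all diagrams. -/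
def subIncl : subUniv S hS ⟶ univ B where
  app a := ⟨fun A => A.1, fun A => 𝟙 A.1.top⟩
  naturality a b θ := FormalCoproduct.hom_ext rfl fun A => by
    simp [subUniv, univ]

theorem subIncl_ext {a : SimplexCategoryᵒᵖ} {U : D}
    {x y : (FormalCoproduct.incl D).obj U ⟶ (subUniv S hS).obj a}
    (h : x ≫ (subIncl S hS).app a = y ≫ (subIncl S hS).app a) : x = y := by
  obtain ⟨h1, h2⟩ := (FormalCoproduct.hom_ext_iff' _ _).1 h PUnit.unit
  refine FormalCoproduct.hom_ext (funext fun _ => Subtype.ext h1) fun _ => ?_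
  have h3 : (x.φ PUnit.unit ≫ 𝟙 _) ≫ eqToHom _ = y.φ PUnit.unit ≫ 𝟙 _ := h2
  rw [Category.comp_id, Category.comp_id] at h3
  exact h3

end sub

theorem fromIncl_fill {n : ℕ} {U : D} (b : Bdry (univ B) n U) {V : D} (hV : V ∈ B) (f : V ⟶ U) {W : D}
    (h : W ⟶ V) (htop : (fillDiag b hV f).top = V) {k : SimplexCategory} (φ : k ⟶ ⦋n + 1⦌)
    (hφ : ¬ Function.Surjective φ.toOrderHom) :
    FormalCoproduct.Hom.fromIncl (fillDiag b hV f) (h ≫ eqToHom htop.symm) ≫ (univ B).map φ.op =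
      (FormalCoproduct.incl D).map (h ≫ f) ≫ b.s φ hφ := by
  refine FormalCoproduct.hom_ext (funext fun _ => pull_fillDiag b hV f φ hφ) fun _ => ?_
  simp only [univ, FormalCoproduct.category_comp_φ, FormalCoproduct.Hom.fromIncl_φ]
  change ((h ≫ eqToHom _) ≫ fillMap b f φ (𝟙 ⦋n + 1⦌)) ≫ eqToHom _ = (h ≫ f) ≫ comp b φ hφ
  rw [fillMap, dif_pos (show Function.Surjective (SimplexCategory.Hom.toOrderHom (𝟙 ⦋n + 1⦌)) from
    fun x => ⟨x, rfl⟩),
    dif_neg (show ¬ Function.Surjective (φ ≫ 𝟙 ⦋n + 1⦌).toOrderHom from hφ)]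
  simp only [Category.assoc, eqToHom_trans_assoc, eqToHom_refl, Category.id_comp, eqToHom_trans]
  exact congrArg (fun t => h ≫ f ≫ t) (Category.comp_id _)

/-- The simplices of dimension at most `n` over the simplex of dimension `n + 1`. -/
structure El (n : ℕ) : Type where
  k : Fin (n + 1)
  θ : ⦋(k : ℕ)⦌ ⟶ ⦋n + 1⦌

instance (n : ℕ) : SmallCategory (El n) where
  Hom e e' := {ψ : ⦋(e'.k : ℕ)⦌ ⟶ ⦋(e.k : ℕ)⦌ // ψ ≫ e.θ = e'.θ}
  id e := ⟨𝟙 _, Category.id_comp _⟩
  comp f g := ⟨g.1 ≫ f.1, by rw [Category.assoc, f.2, g.2]⟩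
  id_comp f := Subtype.ext (Category.comp_id f.1)
  comp_id f := Subtype.ext (Category.id_comp f.1)
  assoc f g h := Subtype.ext (Category.assoc h.1 g.1 f.1).symm

instance (n : ℕ) : Finite (El n) :=
  Finite.of_injective (β := Σ k : Fin (n + 1), (Fin ((k : ℕ) + 1) → Fin (n + 2)))
    (fun e => ⟨e.k, e.θ.toOrderHom⟩) fun e e' h => by
      obtain ⟨k, θ⟩ := e
      obtain ⟨k', θ'⟩ := e'
      obtain ⟨rfl, h⟩ := Sigma.mk.inj_iff.1 h
      obtain rfl : θ = θ' := SimplexCategory.Hom.ext _ _ (OrderHom.ext _ _ (eq_of_heq h))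
      rfl

instance finite_elHom (n : ℕ) (e e' : El n) : Finite (e ⟶ e') :=
  Finite.of_injective (β := Fin ((e'.k : ℕ) + 1) → Fin ((e.k : ℕ) + 1)) (fun f => f.1.toOrderHom) fun f g h =>
    Subtype.ext (SimplexCategory.Hom.ext _ _ (OrderHom.ext _ _ h))

noncomputable instance (n : ℕ) : FinCategory (El n) where
  fintypeObj := Fintype.ofFinite _
  fintypeHom _ _ := Fintype.ofFinite _

variable [HasFiniteLimits D]

/-- Compatible indices on the boundary of a simplex. -/
structure IData (S : ∀ a : SimplexCategory, Set (Diag B a)) (n : ℕ) : Type u where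
  idx : ∀ e : El n, Diag B ⦋(e.k : ℕ)⦌
  mem : ∀ e, idx e ∈ S _
  compat : ∀ {e e' : El n} (f : e ⟶ e'), idx e' = (idx e).pull f.1

namespace IData

variable {S : ∀ a : SimplexCategory, Set (Diag B a)} {n : ℕ} (I : IData S n)

theorem finite (hS : ∀ a, (S a).Finite) : Finite (IData S n) :=
  haveI := fun e : El n => (hS ⦋(e.k : ℕ)⦌).to_subtype
  Finite.of_injective (β := ∀ e : El n, {A : Diag B ⦋(e.k : ℕ)⦌ // A ∈ S _}) (fun I e => ⟨I.idx e, I.mem e⟩)
    fun I I' h => by
      obtain ⟨i, _, _⟩ := I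
      obtain ⟨i', _, _⟩ := I'
      obtain rfl : i = i' := funext fun e => congrArg Subtype.val (congrFun h e)
      rfl

/-- The diagram of the tops. -/
def diagram : El n ⥤ D where
  obj e := (I.idx e).top
  map {e e'} f := (I.idx e).toPull f.1 ≫ eqToHom (congrArg Diag.top (I.compat f).symm)
  map_id e := by
    have h : (I.idx e).toPull (𝟙 e : e ⟶ e).1 = 𝟙 _ := (I.idx e).map_id (𝟙 _)
    rw [h]
    simp
  map_comp {e e' e''} f g := by
    have h : (I.idx e).toPull (f ≫ g).1 = (I.idx e).toPull f.1 ≫ ((I.idx e).pull f.1).toPull g.1 :=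
      (I.idx e).map_comp g.1 f.1 (𝟙 _)
    rw [h]
    have e2 := Diag.toPull_congr (I.compat f).symm g.1
    simp only [Category.assoc]
    rw [← reassoc_of% e2, eqToHom_trans]

/-- The object of boundaries with the given indices. -/
noncomputable abbrev W : D := limit I.diagram

/-- The universal family on a boundary. -/
noncomputable def fam {k : SimplexCategory} (hk : k.len ≤ n) (θ : k ⟶ ⦋n + 1⦌) :
    (FormalCoproduct.incl D).obj I.W ⟶ (univ B).obj (op k) :=
  FormalCoproduct.Hom.fromIncl (I.idx ⟨⟨k.len, Nat.lt_succ_of_le hk⟩, θ⟩)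
    (limit.π I.diagram ⟨⟨k.len, Nat.lt_succ_of_le hk⟩, θ⟩)

theorem fam_comp {k l : SimplexCategory} (hk : k.len ≤ n) (hl : l.len ≤ n) (ψ : l ⟶ k) (θ : k ⟶ ⦋n + 1⦌) :
    I.fam hl (ψ ≫ θ) = I.fam hk θ ≫ (univ B).map ψ.op := by
  let e : El n := ⟨⟨k.len, Nat.lt_succ_of_le hk⟩, θ⟩
  let e' : El n := ⟨⟨l.len, Nat.lt_succ_of_le hl⟩, ψ ≫ θ⟩
  let f : e ⟶ e' := ⟨ψ, rfl⟩
  refine FormalCoproduct.hom_ext (funext fun _ => I.compat f) fun _ => ?_
  simp only [fam, univ, FormalCoproduct.category_comp_φ, FormalCoproduct.Hom.fromIncl_φ]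
  have h := limit.w I.diagram f
  change limit.π I.diagram e' ≫ eqToHom _ = limit.π I.diagram e ≫ (I.idx e).toPull ψ
  rw [← h, Category.assoc]
  refine congrArg (_ ≫ ·) ?_
  change ((I.idx e).toPull f.1 ≫ eqToHom (congrArg Diag.top (I.compat f).symm)) ≫ eqToHom _ = _
  rw [Category.assoc, eqToHom_trans]
  exact Category.comp_id _

/-- The universal boundary with the given indices. -/
noncomputable def bdry : Bdry (univ B) n I.W :=
  Bdry.ofFamily (fun {_} hk θ => I.fam hk θ) (fun hk hl ψ θ => I.fam_comp hk hl ψ θ)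

end IData

section stage

variable (cI : D → Type u) (cV : ∀ W : D, cI W → D) (cf : ∀ (W : D) (j : cI W), cV W j ⟶ W)
  (cB : ∀ (W : D) (j : cI W), cV W j ∈ B) {ι : Type u} (V₀ : ι → D) (hV₀ : ∀ i, V₀ i ∈ B)

/-- The stages of the construction. -/
noncomputable def stage : ℕ → ∀ a : SimplexCategory, Set (Diag B a)
  | 0, a => Set.range fun p : ι × (a ⟶ ⦋0⦌) => (Diag.const ⦋0⦌ (hV₀ p.1)).pull p.2
  | n + 1, a => stage n a ∪ Set.range fun p : (Σ I : IData (stage n) n, cI I.W) × (a ⟶ ⦋n + 1⦌) =>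
      (fillDiag p.1.1.bdry (cB p.1.1.W p.1.2) (cf p.1.1.W p.1.2)).pull p.2

theorem finite_hom' (a b : SimplexCategory) : Finite (a ⟶ b) :=
  Finite.of_injective (β := Fin (a.len + 1) → Fin (b.len + 1)) (fun f => f.toOrderHom) fun f g h =>
    SimplexCategory.Hom.ext _ _ (OrderHom.ext _ _ h)

theorem finite_stage [Finite ι] (hc : ∀ W, Finite (cI W)) :
    ∀ (n : ℕ) (a : SimplexCategory), (stage cI cV cf cB V₀ hV₀ n a).Finite
  | 0, a => by
    haveI := finite_hom' a ⦋0⦌
    rw [stage]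
    exact Set.finite_range _
  | n + 1, a => by
    haveI := finite_hom' a ⦋n + 1⦌
    haveI := IData.finite (n := n) (finite_stage hc n)
    haveI := fun I : IData (stage cI cV cf cB V₀ hV₀ n) n => hc I.W
    rw [stage]
    exact (finite_stage hc n a).union (Set.finite_range _)

theorem pull_mem_stage : ∀ (n : ℕ) {a b : SimplexCategory} (θ : b ⟶ a) (A : Diag B a),
    A ∈ stage cI cV cf cB V₀ hV₀ n a → A.pull θ ∈ stage cI cV cf cB V₀ hV₀ n b
  | 0, a, b, θ, A, h => by
    obtain ⟨⟨i, p⟩, rfl⟩ := h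
    exact ⟨(i, θ ≫ p), rfl⟩
  | n + 1, a, b, θ, A, h => by
    rcases h with h | ⟨⟨q, p⟩, rfl⟩
    · exact Or.inl (pull_mem_stage n θ A h)
    · exact Or.inr ⟨(q, θ ≫ p), rfl⟩

theorem stage_mono {n m : ℕ} (h : n ≤ m) (a : SimplexCategory) :
    stage cI cV cf cB V₀ hV₀ n a ⊆ stage cI cV cf cB V₀ hV₀ m a := by
  induction h with
  | refl => exact subset_rfl
  | step _ ih => exact fun A hA => Or.inl (ih hA)

theorem stage_eq {n m : ℕ} (h : n ≤ m) (a : SimplexCategory) (ha : a.len ≤ n) :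
    stage cI cV cf cB V₀ hV₀ m a ⊆ stage cI cV cf cB V₀ hV₀ n a := by
  induction h with
  | refl => exact subset_rfl
  | @step m hnm ih =>
    rintro A (hA | ⟨⟨⟨I, j⟩, θ⟩, rfl⟩)
    · exact ih hA
    · have hθ := Hyper19.not_surjective_of_len_le (le_trans ha hnm) θ
      refine ih ?_
      dsimp only
      rw [pull_fillDiag _ _ _ θ hθ]
      have e : idx I.bdry θ hθ = I.idx ⟨⟨a.len, Nat.lt_succ_of_le (le_trans ha hnm)⟩, θ⟩ :=
        congrArg (fun t => FormalCoproduct.Hom.f t PUnit.unit)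
          (Bdry.ofFamily_s (fun {_} hk θ => I.fam hk θ) (fun hk hl ψ θ => I.fam_comp hk hl ψ θ)
            (le_trans ha hnm) θ hθ)
      rw [e]
      exact I.mem ⟨⟨a.len, Nat.lt_succ_of_le (le_trans ha hnm)⟩, θ⟩

/-- The diagrams of the construction. -/
def stages (a : SimplexCategory) : Set (Diag B a) := stage cI cV cf cB V₀ hV₀ a.len a

theorem pull_mem_stages {a b : SimplexCategory} (θ : b ⟶ a) (A : Diag B a)
    (h : A ∈ stages cI cV cf cB V₀ hV₀ a) : A.pull θ ∈ stages cI cV cf cB V₀ hV₀ b := by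
  rcases le_total a.len b.len with hab | hab
  · exact stage_mono cI cV cf cB V₀ hV₀ hab b (pull_mem_stage cI cV cf cB V₀ hV₀ _ θ A h)
  · exact stage_eq cI cV cf cB V₀ hV₀ hab b le_rfl (pull_mem_stage cI cV cf cB V₀ hV₀ _ θ A h)

theorem hasFills_stages (J : GrothendieckTopology D) (hcov : ∀ W, Sieve.ofArrows (cV W) (cf W) ∈ J W) :
    HasFills J (subUniv (stages cI cV cf cB V₀ hV₀) (pull_mem_stages cI cV cf cB V₀ hV₀)) := by
  intro n U b
  let ic := subIncl (stages cI cV cf cB V₀ hV₀) (pull_mem_stages cI cV cf cB V₀ hV₀)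
  let bu : Bdry (univ B) n U :=
    { s := fun φ h => b.s φ h ≫ ic.app _
      w := fun {k l} ψ φ h h' => by rw [b.w ψ φ h h', Category.assoc, Category.assoc, ic.naturality] }
  have hns : ∀ e : El n, ¬ Function.Surjective e.θ.toOrderHom := fun e =>
    Hyper19.not_surjective_of_len_le (k := ⦋(e.k : ℕ)⦌) (Nat.lt_succ_iff.1 e.k.isLt) e.θ
  let I : IData (stage cI cV cf cB V₀ hV₀ n) n :=
    { idx := fun e => idx bu e.θ (hns e)
      mem := fun e => stage_mono cI cV cf cB V₀ hV₀ (Nat.lt_succ_iff.1 e.k.isLt) _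
        ((b.s e.θ (hns e)).f PUnit.unit).2
      compat := fun {e e'} f => by
        have key : ∀ (θ' : ⦋(e'.k : ℕ)⦌ ⟶ ⦋n + 1⦌) (h' : ¬ Function.Surjective θ'.toOrderHom),
            f.1 ≫ e.θ = θ' → idx bu θ' h' = (idx bu e.θ (hns e)).pull f.1 := by
          rintro θ' h' rfl
          exact idx_comp bu f.1 e.θ (hns e) h'
        exact key e'.θ (hns e') f.2 }
  let c : Cone I.diagram :=
    { pt := U
      π :=
        { app := fun e => comp bu e.θ (hns e)
          naturality := fun e e' f => by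
            have key : ∀ (θ' : ⦋(e'.k : ℕ)⦌ ⟶ ⦋n + 1⦌) (h' : ¬ Function.Surjective θ'.toOrderHom)
                (p : ((idx bu e.θ (hns e)).pull f.1).top = (idx bu θ' h').top),
                f.1 ≫ e.θ = θ' →
                  comp bu θ' h' = comp bu e.θ (hns e) ≫ (idx bu e.θ (hns e)).toPull f.1 ≫ eqToHom p := by
              rintro θ' h' p rfl
              rw [← reassoc_of% (comp_comp bu f.1 e.θ (hns e) h'), eqToHom_trans]
              exact (Category.comp_id _).symm
            exact (Category.id_comp _).trans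
              (key e'.θ (hns e') (congrArg Diag.top (I.compat f).symm) f.2) } }
  let lft : U ⟶ I.W := limit.lift I.diagram c
  refine ⟨_, J.pullback_stable lft (hcov I.W), fun V e he => ?_⟩
  obtain ⟨_, h, _, ⟨j⟩, hh⟩ := he
  classical
  have htop : (fillDiag I.bdry (cB I.W j) (cf I.W j)).top = cV I.W j :=
    fillObj_pos I.bdry (φ := 𝟙 ⦋n + 1⦌) (fun x => ⟨x, rfl⟩)
  have hmem : fillDiag I.bdry (cB I.W j) (cf I.W j) ∈ stages cI cV cf cB V₀ hV₀ ⦋n + 1⦌ :=
    Or.inr ⟨(⟨I, j⟩, 𝟙 ⦋n + 1⦌), rfl⟩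
  let x₀ : (FormalCoproduct.incl D).obj V ⟶
      (subUniv (stages cI cV cf cB V₀ hV₀) (pull_mem_stages cI cV cf cB V₀ hV₀)).obj (op ⦋n + 1⦌) :=
    FormalCoproduct.Hom.fromIncl ⟨fillDiag I.bdry (cB I.W j) (cf I.W j), hmem⟩ (h ≫ eqToHom htop.symm)
  have hx₀ : x₀ ≫ ic.app (op ⦋n + 1⦌) =
      FormalCoproduct.Hom.fromIncl (fillDiag I.bdry (cB I.W j) (cf I.W j)) (h ≫ eqToHom htop.symm) :=
    FormalCoproduct.hom_ext rfl fun _ => by
      simp [x₀, ic, subIncl]
      exact congrArg (h ≫ ·) (Category.comp_id _)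
  refine ⟨x₀, fun {k} φ hφ => subIncl_ext _ _ ?_⟩
  rw [Category.assoc, ic.naturality, ← Category.assoc, hx₀, fromIncl_fill I.bdry _ _ h htop φ hφ, hh,
    Functor.map_comp, Category.assoc, Category.assoc]
  refine congrArg (_ ≫ ·) ?_
  change (FormalCoproduct.incl D).map lft ≫ I.bdry.s φ hφ = bu.s φ hφ
  obtain ⟨i, ψ, rfl⟩ := SimplexCategory.eq_comp_δ_of_not_surjective φ hφ
  have hi : ¬ Function.Surjective (SimplexCategory.δ i).toOrderHom :=
    Hyper19.not_surjective_of_len_le (k := ⦋n⦌) le_rfl _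
  rw [I.bdry.w ψ (SimplexCategory.δ i) hi hφ, bu.w ψ (SimplexCategory.δ i) hi hφ, ← Category.assoc]
  refine congrArg (· ≫ _) ?_
  refine (congrArg (_ ≫ ·) (Bdry.ofFamily_s (fun {_} hk θ => I.fam hk θ) (fun hk hl ψ θ => I.fam_comp hk hl ψ θ)
    (k := ⦋n⦌) le_rfl (SimplexCategory.δ i) hi)).trans ?_
  refine FormalCoproduct.hom_ext rfl fun _ => ?_
  simp only [FormalCoproduct.category_comp_φ, eqToHom_refl, Category.comp_id]
  exact limit.lift_π c _

end stage

end GrothLib.Hyper25
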