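import Groth.Agent.Lib.Hyper25.Finite

/-!
# Hypercoverings of an object by finite families in a covering class
-/

set_option autoImplicit false
set_option backward.isDefEq.respectTransparency false
set_option linter.unusedSectionVars false

universe u

open CategoryTheory CategoryTheory.Limits Opposite Simplicial

namespace GrothLib.Hyper25

variable {C : Type u} [SmallCategory C] [HasPullbacks C] (J : GrothendieckTopology C) (B : Set C)

theorem exists_finite_hypercovering
    (h2 : ∀ X : C, ∃ (ι : Type u) (_ : Finite ι) (U : ι → C) (f : ∀ i, U i ⟶ X),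
      Sieve.ofArrows U f ∈ J X ∧ ∀ i, U i ∈ B)
    (X : C) [∀ (n : ℕ) (F : (SimplexCategory.Truncated n)ᵒᵖ ⥤ Limits.FormalCoproduct.{u} (Over X)),
      (SimplexCategory.Truncated.inclusion n).op.HasRightKanExtension F] :
    ∃ K : SimplicialObject (FormalCoproduct.{u} (Over X)), Hyper.IsHypercovering J X K ∧
      ∀ n : ℕ, Finite (K.obj (op (SimplexCategory.mk n))).I ∧
        ∀ i, ((K.obj (op (SimplexCategory.mk n))).obj i).left ∈ B := by
  haveI : HasFiniteLimits (Over X) := hasFiniteLimits_of_hasTerminal_and_pullbacks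
  choose ι hι U f hf hU using h2
  let B' : Set (Over X) := {Y | Y.left ∈ B}
  let cI : Over X → Type u := fun W => ι W.left
  let cV : ∀ W : Over X, cI W → Over X := fun W i => Over.mk (f W.left i ≫ W.hom)
  let cf : ∀ (W : Over X) (j : cI W), cV W j ⟶ W := fun W i => Over.homMk (f W.left i) rfl
  let V₀ : ι X → Over X := fun i => Over.mk (f X i)
  have cB : ∀ (W : Over X) (j : cI W), cV W j ∈ B' := fun W j => hU W.left j
  have hV₀ : ∀ i, V₀ i ∈ B' := fun i => hU X i
  have hcov : ∀ W, Sieve.ofArrows (cV W) (cf W) ∈ J.over X W := fun W => by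
    rw [GrothendieckTopology.mem_over_iff]
    refine J.superset_covering ?_ (hf W.left)
    rintro Y g ⟨_, a, _, ⟨i⟩, rfl⟩
    rw [Sieve.overEquiv_iff]
    exact ⟨cV W i, Over.homMk a (Category.assoc _ _ _).symm, cf W i, ⟨i⟩, Over.OverMorphism.ext rfl⟩
  haveI := hι X
  refine ⟨subUniv (stages cI cV cf cB V₀ hV₀) (pull_mem_stages cI cV cf cB V₀ hV₀),
    isHypercovering (hasFills_stages cI cV cf cB V₀ hV₀ (J.over X) hcov) ⟨_, hf X, ?_⟩,
    fun n => ⟨(finite_stage cI cV cf cB V₀ hV₀ (fun W => hι W.left) n _).to_subtype, fun i => i.1.mem _⟩⟩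
  rintro V g ⟨_, a, _, ⟨i⟩, rfl⟩
  exact ⟨FormalCoproduct.Hom.fromIncl ⟨Diag.const (B := B') ⦋0⦌ (hV₀ i), (i, 𝟙 _), Diag.pull_id _⟩
    (Over.homMk a rfl)⟩

end GrothLib.Hyper25
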