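import Groth.Agent.Lib.Hyper25.Labelled
import Groth.Agent.Lib.Hyper25.Extend
import Mathlib.AlgebraicTopology.SimplicialSet.FiniteProd
import Mathlib.AlgebraicTopology.SimplicialObject.Homotopy

/-!
# Common refinements and homotopies between morphisms of hypercoverings
-/

set_option autoImplicit false
set_option backward.isDefEq.respectTransparency false
set_option backward.isDefEq.respectTransparency.types false
set_option linter.unusedSectionVars false

universe u

open CategoryTheory CategoryTheory.Limits Opposite Simplicial MonoidalCategory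

attribute [local semireducible] SimplexCategory.Hom

namespace GrothLib.Hyper25

variable {D : Type u} [SmallCategory D] {J : GrothendieckTopology D}
  {K L : SimplicialObject (FormalCoproduct.{u} D)}

theorem lproj_comp (P : SimplicialObject (Dᵒᵖ ⥤ Type u)) {a : SimplexCategory} {Y Y' : FormalCoproduct.{u} D}
    (τ : ∀ {V : D}, (P.obj (op a)).obj (op V) → ((FormalCoproduct.incl D).obj V ⟶ Y)) (q : Y ⟶ Y') :
    lproj P τ ≫ q = lproj P (fun p => τ p ≫ q) := by
  refine hom_ext_fromIncl fun A => ?_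
  rw [← Category.assoc]
  exact (congrArg (· ≫ q) (fromIncl_lproj P τ A)).trans (fromIncl_lproj P (fun p => τ p ≫ q) A).symm

section pair

variable (K L) in
/-- Pairs of sections. -/
def pairP : SimplicialObject (Dᵒᵖ ⥤ Type u) where
  obj a :=
    { obj := fun V => ((FormalCoproduct.incl D).obj V.unop ⟶ K.obj a) × ((FormalCoproduct.incl D).obj V.unop ⟶ L.obj a)
      map := fun g => ↾fun p => ((FormalCoproduct.incl D).map g.unop ≫ p.1, (FormalCoproduct.incl D).map g.unop ≫ p.2)
      map_id := fun V => by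
        ext p : 3
        refine Prod.ext ?_ ?_
        · exact (congrArg (· ≫ p.1) ((FormalCoproduct.incl D).map_id _)).trans (Category.id_comp _)
        · exact (congrArg (· ≫ p.2) ((FormalCoproduct.incl D).map_id _)).trans (Category.id_comp _)
      map_comp := fun g g' => by
        ext p : 3
        refine Prod.ext ?_ ?_
        · exact (congrArg (· ≫ p.1) ((FormalCoproduct.incl D).map_comp _ _)).trans (Category.assoc _ _ _)
        · exact (congrArg (· ≫ p.2) ((FormalCoproduct.incl D).map_comp _ _)).trans (Category.assoc _ _ _) }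
  map θ :=
    { app := fun V => ↾fun p => (p.1 ≫ K.map θ, p.2 ≫ L.map θ)
      naturality := fun V W g => by
        ext p : 3
        exact Prod.ext (Category.assoc _ _ _) (Category.assoc _ _ _) }
  map_id a := by
    ext V p : 5
    exact Prod.ext ((congrArg (p.1 ≫ ·) (K.map_id a)).trans (Category.comp_id _))
      ((congrArg (p.2 ≫ ·) (L.map_id a)).trans (Category.comp_id _))
  map_comp θ θ' := by
    ext V p : 5
    exact Prod.ext ((congrArg (p.1 ≫ ·) (K.map_comp θ θ')).trans (Category.assoc _ _ _).symm)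
      ((congrArg (p.2 ≫ ·) (L.map_comp θ θ')).trans (Category.assoc _ _ _).symm)

theorem hasLFills_pairP (hK : HasFills J K) (hL : HasFills J L) : HasLFills J (pairP K L) := by
  intro n U b
  obtain ⟨S, hS, hS'⟩ := hK n U
    { s := fun φ h => (b.s φ h).1
      w := fun ψ φ h h' => congrArg Prod.fst (b.w ψ φ h h') }
  obtain ⟨T, hT, hT'⟩ := hL n U
    { s := fun φ h => (b.s φ h).2
      w := fun ψ φ h h' => congrArg Prod.snd (b.w ψ φ h h') }
  refine ⟨S ⊓ T, J.intersection_covering hS hT, fun V g hg => ?_⟩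
  obtain ⟨x, hx⟩ := hS' g hg.1
  obtain ⟨y, hy⟩ := hT' g hg.2
  exact ⟨(x, y), fun φ h => Prod.ext (hx φ h) (hy φ h)⟩

/-- The first projection from pairs. -/
def pairFst : luniv (pairP K L) ⟶ K where
  app a := lproj (pairP K L) (a := a.unop) fun p => p.1
  naturality a b θ := by
    refine (map_lproj (pairP K L) θ.unop (fun p => p.1) (fun p => p.1 ≫ K.map θ) (fun g p => rfl)
      (fun p => rfl)).trans ?_
    exact (lproj_comp (pairP K L) (fun p => p.1) (K.map θ)).symm

/-- The second projection from pairs. -/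
def pairSnd : luniv (pairP K L) ⟶ L where
  app a := lproj (pairP K L) (a := a.unop) fun p => p.2
  naturality a b θ := by
    refine (map_lproj (pairP K L) θ.unop (fun p => p.2) (fun p => p.2 ≫ L.map θ) (fun g p => rfl)
      (fun p => rfl)).trans ?_
    exact (lproj_comp (pairP K L) (fun p => p.2) (L.map θ)).symm

end pair

variable (f g : K ⟶ L)

/-- A section of `K` with a prism in `L` between its two images. -/
structure HLbl (a : SimplexCategory) (V : D) : Type u where
  x : (FormalCoproduct.incl D).obj V ⟶ K.obj (op a)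
  H : ∀ {k : SimplexCategory}, (k ⟶ a) → (k ⟶ ⦋1⦌) → ((FormalCoproduct.incl D).obj V ⟶ L.obj (op k))
  nat : ∀ {k l : SimplexCategory} (ψ : l ⟶ k) (θ : k ⟶ a) (ε : k ⟶ ⦋1⦌), H (ψ ≫ θ) (ψ ≫ ε) = H θ ε ≫ L.map ψ.op
  h0 : ∀ {k : SimplexCategory} (θ : k ⟶ a),
    H θ (SimplexCategory.const k ⦋1⦌ 0) = x ≫ K.map θ.op ≫ f.app (op k)
  h1 : ∀ {k : SimplexCategory} (θ : k ⟶ a),
    H θ (SimplexCategory.const k ⦋1⦌ 1) = x ≫ K.map θ.op ≫ g.app (op k)

variable {f g}

namespace HLbl

theorem ext' {a : SimplexCategory} {V : D} {p q : HLbl f g a V} (hx : p.x = q.x)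
    (hH : ∀ {k : SimplexCategory} (θ : k ⟶ a) (ε : k ⟶ ⦋1⦌), p.H θ ε = q.H θ ε) : p = q := by
  obtain ⟨x, H, _, _, _⟩ := p
  obtain ⟨x', H', _, _, _⟩ := q
  obtain rfl : x = x' := hx
  obtain rfl : @H = @H' := by
    funext k θ ε
    exact hH θ ε
  rfl

/-- Restriction. -/
def res {a : SimplexCategory} {V W : D} (e : W ⟶ V) (p : HLbl f g a V) : HLbl f g a W where
  x := (FormalCoproduct.incl D).map e ≫ p.x
  H θ ε := (FormalCoproduct.incl D).map e ≫ p.H θ ε
  nat ψ θ ε := by rw [p.nat, Category.assoc]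
  h0 θ := by rw [p.h0, Category.assoc]
  h1 θ := by rw [p.h1, Category.assoc]

/-- The operation of a map of simplices. -/
def act {a b : SimplexCategory} {V : D} (θ : b ⟶ a) (p : HLbl f g a V) : HLbl f g b V where
  x := p.x ≫ K.map θ.op
  H θ' ε := p.H (θ' ≫ θ) ε
  nat ψ θ' ε := by rw [Category.assoc, p.nat]
  h0 θ' := by rw [p.h0, op_comp, K.map_comp, Category.assoc, Category.assoc]
  h1 θ' := by rw [p.h1, op_comp, K.map_comp, Category.assoc, Category.assoc]

end HLbl

variable (f g) in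
/-- The simplicial presheaf of prisms. -/
def homP : SimplicialObject (Dᵒᵖ ⥤ Type u) where
  obj a :=
    { obj := fun V => HLbl f g a.unop V.unop
      map := fun e => ↾fun p => p.res e.unop
      map_id := fun V => by
        ext p
        exact HLbl.ext' (by simp [HLbl.res]) fun θ ε => by simp [HLbl.res]
      map_comp := fun e e' => by
        ext p
        exact HLbl.ext' (by simp [HLbl.res]) fun θ ε => by simp [HLbl.res] }
  map θ :=
    { app := fun V => ↾fun p => p.act θ.unop
      naturality := fun V W e => by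
        ext p
        exact HLbl.ext' (Category.assoc _ _ _) fun θ' ε => rfl }
  map_id a := by
    ext V p
    exact HLbl.ext' (by simp [HLbl.act]) fun θ' ε => by simp [HLbl.act]
  map_comp θ θ' := by
    ext V p
    exact HLbl.ext' (by simp [HLbl.act]) fun θ'' ε => by simp [HLbl.act]

section extend

variable {a : SimplexCategory} {V : D}

/-- The prism on a simplex. -/
abbrev prism (a : SimplexCategory) : SSet.{0} := SSet.stdSimplex.obj a ⊗ SSet.stdSimplex.obj ⦋1⦌

/-- A simplex of the prism. -/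
def prismMk {k : SimplexCategory} (θ : k ⟶ a) (ε : k ⟶ ⦋1⦌) : (prism a).obj (op k) :=
  (SSet.stdSimplex.objEquiv.symm θ, SSet.stdSimplex.objEquiv.symm ε)

theorem exists_prism (hL : HasFills J L) (x : (FormalCoproduct.incl D).obj V ⟶ K.obj (op a))
    (A : ∀ k : SimplexCategory, (prism a).obj (op k) → Prop)
    (hA : ∀ {k l : SimplexCategory} (ψ : l ⟶ k) (z : (prism a).obj (op k)), A k z → A l (zact (prism a) ψ z))
    (hc : ∀ {k : SimplexCategory} (θ : k ⟶ a) (i : Fin 2), A k (prismMk θ (SimplexCategory.const k ⦋1⦌ i)))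
    (F : PFam L (prism a) A V)
    (hF0 : ∀ {k : SimplexCategory} (θ : k ⟶ a), F.val (prismMk θ (SimplexCategory.const k ⦋1⦌ 0)) (hc θ 0) =
      x ≫ K.map θ.op ≫ f.app (op k))
    (hF1 : ∀ {k : SimplexCategory} (θ : k ⟶ a), F.val (prismMk θ (SimplexCategory.const k ⦋1⦌ 1)) (hc θ 1) =
      x ≫ K.map θ.op ≫ g.app (op k)) :
    ∃ S ∈ J V, ∀ ⦃W : D⦄ (e : W ⟶ V), S e → ∃ p : HLbl f g a W, p.x = (FormalCoproduct.incl D).map e ≫ x ∧
      ∀ {k : SimplexCategory} (θ : k ⟶ a) (ε : k ⟶ ⦋1⦌) (h : A k (prismMk θ ε)),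
        p.H θ ε = (FormalCoproduct.incl D).map e ≫ F.val (prismMk θ ε) h := by
  have h₀ : ∀ z : (prism a) _⦋0⦌, A ⦋0⦌ z := by
    rintro ⟨θ, ε⟩
    obtain ⟨θ, rfl⟩ := SSet.stdSimplex.objEquiv.symm.surjective θ
    obtain ⟨ε, rfl⟩ := SSet.stdSimplex.objEquiv.symm.surjective ε
    have : ε = SimplexCategory.const ⦋0⦌ ⦋1⦌ (ε.toOrderHom 0) :=
      SimplexCategory.Hom.ext _ _ (OrderHom.ext _ _ (funext fun t =>
        congrArg ε.toOrderHom (Subsingleton.elim (α := Fin 1) t 0)))
    rw [this]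
    exact hc θ _
  obtain ⟨S, hS, hS'⟩ := exists_extension h₀ hA hL F
  refine ⟨S, hS, fun W e he => ?_⟩
  obtain ⟨H, hH, hHA⟩ := hS' e he
  refine ⟨{ x := (FormalCoproduct.incl D).map e ≫ x
            H := fun θ ε => H (prismMk θ ε)
            nat := fun ψ θ ε => hH ψ (prismMk θ ε)
            h0 := fun θ => ?_
            h1 := fun θ => ?_ }, rfl, fun θ ε h => hHA _ h⟩
  · rw [hHA _ (hc θ 0), hF0, Category.assoc]
  · rw [hHA _ (hc θ 1), hF1, Category.assoc]

theorem exists_vertex_homP (hL : HasFills J L) (x : (FormalCoproduct.incl D).obj V ⟶ K.obj (op ⦋0⦌)) :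
    ∃ S ∈ J V, ∀ ⦃W : D⦄ (e : W ⟶ V), S e → Nonempty (HLbl f g ⦋0⦌ W) := by
  classical
  let A : ∀ k : SimplexCategory, (prism ⦋0⦌).obj (op k) → Prop := fun k z =>
    ∃ i : Fin 2, SSet.stdSimplex.objEquiv z.2 = SimplexCategory.const k ⦋1⦌ i
  let F : PFam L (prism ⦋0⦌) A V :=
    { val := fun {k} z _ => x ≫ K.map (SSet.stdSimplex.objEquiv z.1).op ≫
        (if (SSet.stdSimplex.objEquiv z.2).toOrderHom 0 = 0 then f.app (op k) else g.app (op k))
      nat := fun {k l} ψ z h _ => by
        obtain ⟨i, hi⟩ := h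
        have e1 : SSet.stdSimplex.objEquiv (zact (prism ⦋0⦌) ψ z).1 = ψ ≫ SSet.stdSimplex.objEquiv z.1 := rfl
        have e2 : SSet.stdSimplex.objEquiv (zact (prism ⦋0⦌) ψ z).2 = ψ ≫ SSet.stdSimplex.objEquiv z.2 := rfl
        rw [e1, e2, hi, op_comp, K.map_comp, Category.assoc, Category.assoc, Category.assoc]
        refine congrArg (x ≫ K.map _ ≫ ·) ?_
        have e3 : (ψ ≫ SimplexCategory.const k ⦋1⦌ i).toOrderHom 0 = i := rfl
        have e4 : (SimplexCategory.const k ⦋1⦌ i).toOrderHom 0 = i := rfl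
        rw [e3, e4]
        split_ifs <;> simp [NatTrans.naturality] }
  obtain ⟨S, hS, hS'⟩ := exists_prism (f := f) (g := g) hL x A
    (fun {k l} ψ z ⟨i, hi⟩ => ⟨i, (show SSet.stdSimplex.objEquiv (zact (prism ⦋0⦌) ψ z).2 =
      ψ ≫ SSet.stdSimplex.objEquiv z.2 from rfl).trans (by rw [hi]; rfl)⟩)
    (fun θ i => ⟨i, rfl⟩) F (fun θ => rfl) (fun θ => rfl)
  exact ⟨S, hS, fun W e he => ⟨(hS' e he).choose⟩⟩

theorem hasLFills_homP (hK : HasFills J K) (hL : HasFills J L) : HasLFills J (homP f g) := by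
  classical
  intro n U b
  obtain ⟨S, hS, hS'⟩ := hK n U
    { s := fun φ h => (b.s φ h).x
      w := fun ψ φ h h' => congrArg HLbl.x (b.w ψ φ h h') }
  let R : Sieve U :=
    { arrows := fun V e => ∃ p : HLbl f g ⦋n + 1⦌ V,
        ∀ {k : SimplexCategory} (φ : k ⟶ ⦋n + 1⦌) (h : ¬ Function.Surjective φ.toOrderHom),
          p.act φ = (b.s φ h).res e
      downward_closed := by
        rintro V W e ⟨p, hp⟩ e'
        refine ⟨p.res e', fun φ h => ?_⟩
        refine HLbl.ext' ?_ fun θ ε => ?_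
        · have := congrArg HLbl.x (hp φ h)
          simp only [HLbl.act, HLbl.res] at this ⊢
          rw [Category.assoc, this, Functor.map_comp, Category.assoc]
        · have := congrArg (fun q => HLbl.H q θ ε) (hp φ h)
          simp only [HLbl.act, HLbl.res] at this ⊢
          rw [this, Functor.map_comp, Category.assoc] }
  refine ⟨R, J.transitive hS R fun V e he => ?_, fun V e he => he⟩
  obtain ⟨x, hx⟩ := hS' e he
  let A : ∀ k : SimplexCategory, (prism ⦋n + 1⦌).obj (op k) → Prop := fun k z =>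
    ¬ Function.Surjective (SSet.stdSimplex.objEquiv z.1).toOrderHom ∨
      ∃ i : Fin 2, SSet.stdSimplex.objEquiv z.2 = SimplexCategory.const k ⦋1⦌ i
  let v : ∀ {k : SimplexCategory}, (k ⟶ ⦋n + 1⦌) → (k ⟶ ⦋1⦌) → ((FormalCoproduct.incl D).obj V ⟶ L.obj (op k)) :=
    fun {k} θ ε => if h : Function.Surjective θ.toOrderHom then
      x ≫ K.map θ.op ≫ (if ε.toOrderHom 0 = 0 then f.app (op k) else g.app (op k))
    else (FormalCoproduct.incl D).map e ≫ (b.s θ h).H (𝟙 k) ε
  have hv0 : ∀ {k : SimplexCategory} (θ : k ⟶ ⦋n + 1⦌),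
      v θ (SimplexCategory.const k ⦋1⦌ 0) = x ≫ K.map θ.op ≫ f.app (op k) := by
    intro k θ
    simp only [v]
    split_ifs with h h'
    · rfl
    · exact absurd rfl h'
    · rw [(b.s θ h).h0, op_id, K.map_id, Category.id_comp, ← Category.assoc, ← hx θ h, Category.assoc]
  have hv1 : ∀ {k : SimplexCategory} (θ : k ⟶ ⦋n + 1⦌),
      v θ (SimplexCategory.const k ⦋1⦌ 1) = x ≫ K.map θ.op ≫ g.app (op k) := by
    intro k θ
    simp only [v]
    split_ifs with h h'
    · exact absurd (show (1 : Fin 2) = 0 from h') (by decide)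
    · rfl
    · rw [(b.s θ h).h1, op_id, K.map_id, Category.id_comp, ← Category.assoc, ← hx θ h, Category.assoc]
  have hvn : ∀ {k l : SimplexCategory} (ψ : l ⟶ k) (θ : k ⟶ ⦋n + 1⦌) (ε : k ⟶ ⦋1⦌),
      (¬ Function.Surjective θ.toOrderHom ∨ ∃ i : Fin 2, ε = SimplexCategory.const k ⦋1⦌ i) →
        v (ψ ≫ θ) (ψ ≫ ε) = v θ ε ≫ L.map ψ.op := by
    intro k l ψ θ ε hor
    by_cases h : Function.Surjective θ.toOrderHom
    · obtain ⟨i, rfl⟩ := hor.resolve_left (not_not_intro h)
      have hc : ψ ≫ SimplexCategory.const k ⦋1⦌ i = SimplexCategory.const l ⦋1⦌ i := rfl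
      rw [hc]
      fin_cases i
      · change v (ψ ≫ θ) (SimplexCategory.const l ⦋1⦌ 0) = v θ (SimplexCategory.const k ⦋1⦌ 0) ≫ _
        rw [hv0, hv0, op_comp, K.map_comp]
        simp [NatTrans.naturality]
      · change v (ψ ≫ θ) (SimplexCategory.const l ⦋1⦌ 1) = v θ (SimplexCategory.const k ⦋1⦌ 1) ≫ _
        rw [hv1, hv1, op_comp, K.map_comp]
        simp [NatTrans.naturality]
    · have h' := not_surj_comp ψ θ h
      simp only [v, dif_neg h, dif_neg h']
      have hw := congrArg (fun q => HLbl.H q (𝟙 l) (ψ ≫ ε)) (b.w ψ θ h h')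
      refine (congrArg (_ ≫ ·) hw).trans ?_
      rw [Category.assoc]
      refine congrArg (_ ≫ ·) ?_
      exact (b.s θ h).nat ψ (𝟙 k) ε
  let F : PFam L (prism ⦋n + 1⦌) A V :=
    { val := fun z _ => v (SSet.stdSimplex.objEquiv z.1) (SSet.stdSimplex.objEquiv z.2)
      nat := fun ψ z h _ => hvn ψ _ _ h }
  obtain ⟨T, hT, hT'⟩ := exists_prism (f := f) (g := g) hL x A
    (fun {k l} ψ z hz => hz.imp (fun h => not_surj_comp ψ _ h)
      (fun ⟨i, hi⟩ => ⟨i, (show SSet.stdSimplex.objEquiv (zact (prism ⦋n + 1⦌) ψ z).2 =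
        ψ ≫ SSet.stdSimplex.objEquiv z.2 from rfl).trans (by rw [hi]; rfl)⟩))
    (fun θ i => Or.inr ⟨i, rfl⟩) F (fun θ => hv0 θ) (fun θ => hv1 θ)
  refine J.superset_covering (fun W e' he' => ?_) hT
  obtain ⟨p, hpx, hpH⟩ := hT' e' he'
  refine ⟨p, fun {k} φ h => HLbl.ext' ?_ fun {j} θ ε => ?_⟩
  · change p.x ≫ K.map φ.op = (FormalCoproduct.incl D).map (e' ≫ e) ≫ (b.s φ h).x
    rw [hpx, Category.assoc, hx φ h, Functor.map_comp, Category.assoc]
  · have hθ := not_surj_comp θ φ h
    change p.H (θ ≫ φ) ε = (FormalCoproduct.incl D).map (e' ≫ e) ≫ (b.s φ h).H θ ε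
    rw [hpH (θ ≫ φ) ε (Or.inl hθ)]
    change _ ≫ v (θ ≫ φ) ε = _
    simp only [v, dif_neg hθ, Functor.map_comp, Category.assoc]
    exact congrArg (fun q => (FormalCoproduct.incl D).map e' ≫ (FormalCoproduct.incl D).map e ≫ HLbl.H q (𝟙 j) ε)
      (b.w θ φ h hθ)

end extend

section homotopy

variable (f g)

/-- The projection from prisms. -/
def homFst : luniv (homP f g) ⟶ K where
  app a := lproj (homP f g) (a := a.unop) fun p => p.x
  naturality a b θ := by
    refine (map_lproj (homP f g) θ.unop (fun p => p.x) (fun p => p.x ≫ K.map θ) (fun e p => rfl)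
      (fun p => rfl)).trans ?_
    exact (lproj_comp (homP f g) (fun p => p.x) (K.map θ)).symm

theorem δ_toOrderHom_val {n : ℕ} (i : Fin (n + 2)) (t : Fin (n + 1)) :
    ((SimplexCategory.δ i).toOrderHom t : ℕ) = if t.1 < i.1 then t.1 else t.1 + 1 := by
  change ((Fin.succAbove i t) : ℕ) = _
  unfold Fin.succAbove
  split_ifs with h h' h' <;> first | rfl | exact absurd h h' | exact absurd h' h

theorem σ_toOrderHom_val {n : ℕ} (i : Fin (n + 1)) (t : Fin (n + 2)) :
    ((SimplexCategory.σ i).toOrderHom t : ℕ) = if i.1 < t.1 then t.1 - 1 else t.1 := by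
  change ((Fin.predAbove i t) : ℕ) = _
  unfold Fin.predAbove
  split_ifs with h h' h' <;> first | rfl | exact absurd h h' | exact absurd h' h

/-- The step of a prism. -/
def prismStep {n : ℕ} (i : Fin (n + 1)) : ⦋n + 1⦌ ⟶ ⦋1⦌ :=
  SimplexCategory.Hom.mk ⟨fun t => if (i : ℕ) < t.1 then 1 else 0, fun s t h => by
    have : s.1 ≤ t.1 := h
    dsimp only
    split_ifs <;> first | rfl | exact Fin.zero_le _ | omega⟩

/-- The pieces of the prism. -/
def homH {n : ℕ} (i : Fin (n + 1)) : (luniv (homP f g)).obj (op ⦋n⦌) ⟶ L.obj (op ⦋n + 1⦌) :=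
  lproj (homP f g) fun p => p.H (SimplexCategory.σ i) (prismStep i)

theorem homH_map {n m : ℕ} (i : Fin (n + 1)) (φ : ⦋m⦌ ⟶ ⦋n + 1⦌) :
    homH f g i ≫ L.map φ.op = lproj (homP f g) fun p => p.H (φ ≫ SimplexCategory.σ i) (φ ≫ prismStep i) := by
  refine (lproj_comp (homP f g) _ (L.map φ.op)).trans ?_
  congr 1
  funext V p
  exact (p.nat φ _ _).symm

theorem map_homH {n m : ℕ} (i : Fin (n + 1)) (ψ : ⦋n⦌ ⟶ ⦋m⦌) :
    (luniv (homP f g)).map ψ.op ≫ homH f g i = lproj (homP f g) fun p => p.H (SimplexCategory.σ i ≫ ψ) (prismStep i) :=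
  map_lproj (homP f g) ψ _ _ (fun e p => rfl) (fun p => rfl)

theorem homH_map_eq {n n' : ℕ} (i : Fin (n + 1)) (i' : Fin (n' + 1)) (φ : ⦋n' + 1⦌ ⟶ ⦋n + 1⦌)
    (ψ : ⦋n'⦌ ⟶ ⦋n⦌)
    (h₁ : ∀ t : Fin (n' + 2), ((SimplexCategory.σ i).toOrderHom (φ.toOrderHom t)).1 =
      (ψ.toOrderHom ((SimplexCategory.σ i').toOrderHom t)).1)
    (h₂ : ∀ t : Fin (n' + 2), (i : ℕ) < (φ.toOrderHom t).1 ↔ (i' : ℕ) < t.1) :
    homH f g i ≫ L.map φ.op = (luniv (homP f g)).map ψ.op ≫ homH f g i' := by
  rw [homH_map, map_homH]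
  have e1 : φ ≫ SimplexCategory.σ i = SimplexCategory.σ i' ≫ ψ :=
    SimplexCategory.Hom.ext _ _ (OrderHom.ext _ _ (funext fun t => Fin.ext (h₁ t)))
  have e2 : φ ≫ prismStep i = prismStep i' :=
    SimplexCategory.Hom.ext _ _ (OrderHom.ext _ _ (funext fun t => if_congr (h₂ t) rfl rfl))
  rw [e1, e2]

/-- The homotopy on the simplicial object of prisms. -/
noncomputable def homotopy : SimplicialObject.Homotopy (homFst f g ≫ f) (homFst f g ≫ g) where
  h i := homH f g i
  h_zero_comp_δ_zero n := by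
    refine (homH_map f g (0 : Fin (n + 1)) (SimplexCategory.δ 0)).trans ?_
    refine Eq.trans ?_ (lproj_comp (homP f g) (fun p => p.x) (g.app (op ⦋n⦌))).symm
    congr 1
    funext V p
    have e1 : SimplexCategory.δ (0 : Fin (n + 2)) ≫ SimplexCategory.σ (0 : Fin (n + 1)) = 𝟙 ⦋n⦌ :=
      SimplexCategory.δ_comp_σ_self' (n := n) (i := 0) rfl
    have e2 : SimplexCategory.δ (0 : Fin (n + 2)) ≫ prismStep (0 : Fin (n + 1)) =
        SimplexCategory.const ⦋n⦌ ⦋1⦌ 1 :=
      SimplexCategory.Hom.ext _ _ (OrderHom.ext _ _ (funext fun (t : Fin (n + 1)) => by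
        change (if ((0 : Fin (n + 1)) : ℕ) < ((SimplexCategory.δ (0 : Fin (n + 2))).toOrderHom t : ℕ) then
          (1 : Fin 2) else 0) = 1
        rw [if_pos (by rw [δ_toOrderHom_val]; simp)]))
    refine (congrArg₂ p.H e1 e2).trans ((p.h1 (𝟙 _)).trans ?_)
    rw [op_id, K.map_id, Category.id_comp]
  h_last_comp_δ_last n := by
    refine (homH_map f g (Fin.last n) (SimplexCategory.δ (Fin.last (n + 1)))).trans ?_
    refine Eq.trans ?_ (lproj_comp (homP f g) (fun p => p.x) (f.app (op ⦋n⦌))).symm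
    congr 1
    funext V p
    have e1 : SimplexCategory.δ (Fin.last (n + 1)) ≫ SimplexCategory.σ (Fin.last n) = 𝟙 ⦋n⦌ :=
      SimplexCategory.δ_comp_σ_succ' (n := n) (i := Fin.last n) rfl
    have e2 : SimplexCategory.δ (Fin.last (n + 1)) ≫ prismStep (Fin.last n) =
        SimplexCategory.const ⦋n⦌ ⦋1⦌ 0 :=
      SimplexCategory.Hom.ext _ _ (OrderHom.ext _ _ (funext fun (t : Fin (n + 1)) => by
        change (if ((Fin.last n : Fin (n + 1)) : ℕ) < ((SimplexCategory.δ (Fin.last (n + 1))).toOrderHom t : ℕ) then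
          (1 : Fin 2) else 0) = 0
        rw [if_neg (by rw [δ_toOrderHom_val]; simp only [Fin.val_last]; split_ifs <;> omega)]))
    refine (congrArg₂ p.H e1 e2).trans ((p.h0 (𝟙 _)).trans ?_)
    rw [op_id, K.map_id, Category.id_comp]
  h_succ_comp_δ_castSucc_of_lt {n} i j hij := by
    refine homH_map_eq f g j.succ j (SimplexCategory.δ i.castSucc) (SimplexCategory.δ i)
      (fun t => ?_) (fun t => ?_)
    · replace hij : i.1 ≤ j.1 := hij
      simp only [δ_toOrderHom_val, σ_toOrderHom_val, Fin.val_succ, Fin.val_castSucc]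
      split_ifs <;> omega
    · replace hij : i.1 ≤ j.1 := hij
      simp only [δ_toOrderHom_val, Fin.val_succ, Fin.val_castSucc]
      split_ifs <;> omega
  h_succ_comp_δ_castSucc_succ {n} j := by
    refine (homH_map f g j.succ (SimplexCategory.δ j.castSucc.succ)).trans
      (Eq.trans ?_ (homH_map f g j.castSucc (SimplexCategory.δ j.castSucc.succ)).symm)
    congr 1
    funext V p
    refine congrArg₂ p.H ?_ ?_
    · refine SimplexCategory.Hom.ext _ _ (OrderHom.ext _ _ (funext fun (t : Fin (n + 2)) => Fin.ext ?_))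
      change ((SimplexCategory.σ j.succ).toOrderHom ((SimplexCategory.δ j.castSucc.succ).toOrderHom t) : ℕ) =
        ((SimplexCategory.σ j.castSucc).toOrderHom ((SimplexCategory.δ j.castSucc.succ).toOrderHom t) : ℕ)
      simp only [δ_toOrderHom_val, σ_toOrderHom_val, Fin.val_succ, Fin.val_castSucc]
      split_ifs <;> omega
    · refine SimplexCategory.Hom.ext _ _ (OrderHom.ext _ _ (funext fun (t : Fin (n + 2)) => if_congr ?_ rfl rfl))
      change j.succ.1 < ((SimplexCategory.δ j.castSucc.succ).toOrderHom t : ℕ) ↔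
        j.castSucc.1 < ((SimplexCategory.δ j.castSucc.succ).toOrderHom t : ℕ)
      simp only [δ_toOrderHom_val, Fin.val_succ, Fin.val_castSucc]
      split_ifs <;> omega
  h_castSucc_comp_δ_succ_of_lt {n} i j hji := by
    refine homH_map_eq f g j.castSucc j (SimplexCategory.δ i.succ) (SimplexCategory.δ i)
      (fun t => ?_) (fun t => ?_)
    · replace hji : j.1 < i.1 := hji
      simp only [δ_toOrderHom_val, σ_toOrderHom_val, Fin.val_succ, Fin.val_castSucc]
      split_ifs <;> omega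
    · replace hji : j.1 < i.1 := hji
      simp only [δ_toOrderHom_val, Fin.val_succ, Fin.val_castSucc]
      split_ifs <;> omega
  h_comp_σ_castSucc_of_le {n} i j hij := by
    refine homH_map_eq f g j j.succ (SimplexCategory.σ i.castSucc) (SimplexCategory.σ i)
      (fun t => ?_) (fun t => ?_)
    · replace hij : i.1 ≤ j.1 := hij
      simp only [σ_toOrderHom_val, Fin.val_succ, Fin.val_castSucc]
      split_ifs <;> omega
    · replace hij : i.1 ≤ j.1 := hij
      simp only [σ_toOrderHom_val, Fin.val_succ, Fin.val_castSucc]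
      split_ifs <;> omega
  h_comp_σ_succ_of_lt {n} i j hji := by
    refine homH_map_eq f g j j.castSucc (SimplexCategory.σ i.succ) (SimplexCategory.σ i)
      (fun t => ?_) (fun t => ?_)
    · replace hji : j.1 ≤ i.1 := hji
      simp only [σ_toOrderHom_val, Fin.val_succ, Fin.val_castSucc]
      split_ifs <;> omega
    · replace hji : j.1 ≤ i.1 := hji
      simp only [σ_toOrderHom_val, Fin.val_succ, Fin.val_castSucc]
      split_ifs <;> omega

end homotopy

section over

variable {C : Type u} [SmallCategory C] {J : GrothendieckTopology C} {X : C}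
  [∀ (n : ℕ) (F : (SimplexCategory.Truncated n)ᵒᵖ ⥤ Limits.FormalCoproduct.{u} (Over X)),
    (SimplexCategory.Truncated.inclusion n).op.HasRightKanExtension F]
  {K L : SimplicialObject (FormalCoproduct.{u} (Over X))}
  (hK : Hyper.IsHypercovering J X K) (hL : Hyper.IsHypercovering J X L)

include hK hL

theorem isHypercovering_pairP : Hyper.IsHypercovering J X (luniv (pairP K L)) := by
  refine isHypercovering (hasFills_luniv (hasLFills_pairP (hasFills_of_isHypercovering hK)
    (hasFills_of_isHypercovering hL))) ?_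
  obtain ⟨S, hS, hS'⟩ := vertex_of_isHypercovering hK
  obtain ⟨T, hT, hT'⟩ := vertex_of_isHypercovering hL
  refine ⟨S ⊓ T, J.intersection_covering hS hT, fun V g hg => ?_⟩
  obtain ⟨x⟩ := hS' g hg.1
  obtain ⟨y⟩ := hT' g hg.2
  exact nonempty_vertex_luniv (P := pairP K L) (V := Over.mk g) (x, y)

theorem isHypercovering_homP (f g : K ⟶ L) : Hyper.IsHypercovering J X (luniv (homP f g)) := by
  refine isHypercovering (hasFills_luniv (hasLFills_homP (hasFills_of_isHypercovering hK)
    (hasFills_of_isHypercovering hL))) ?_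
  obtain ⟨S, hS, hS'⟩ := vertex_of_isHypercovering hK
  let R : Sieve X :=
    { arrows := fun V e => Nonempty (HLbl f g ⦋0⦌ (Over.mk e))
      downward_closed := by
        rintro V W e ⟨p⟩ e'
        exact ⟨p.res (Over.homMk e' : Over.mk (e' ≫ e) ⟶ Over.mk e)⟩ }
  refine ⟨R, J.transitive hS R fun V e he => ?_,
    fun V e ⟨p⟩ => nonempty_vertex_luniv (P := homP f g) (V := Over.mk e) p⟩
  obtain ⟨x⟩ := hS' e he
  obtain ⟨T, hT, hT'⟩ := exists_vertex_homP (f := f) (g := g) (hasFills_of_isHypercovering hL) x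
  rw [GrothendieckTopology.mem_over_iff] at hT
  refine J.superset_covering (fun W e' he' => ?_) hT
  rw [Sieve.overEquiv_iff] at he'
  exact hT' _ he'

end over

end GrothLib.Hyper25
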