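import Groth.Agent.Lib.Hyper25.Criterion

/-!
# The hypercovering of all labelled diagrams
-/

set_option autoImplicit false
set_option backward.isDefEq.respectTransparency false
set_option backward.isDefEq.respectTransparency.types false
set_option linter.unusedSectionVars false

universe u

open CategoryTheory CategoryTheory.Limits Opposite Simplicial

attribute [local semireducible] SimplexCategory.Hom

namespace GrothLib.Hyper25

variable {D : Type u} [SmallCategory D] (P : SimplicialObject (Dᵒᵖ ⥤ Type u))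

/-- The restriction of a section of a simplicial presheaf. -/
abbrev lres {k : SimplexCategory} {V W : D} (g : W ⟶ V) (p : (P.obj (op k)).obj (op V)) :
    (P.obj (op k)).obj (op W) :=
  (P.obj (op k)).map g.op p

/-- The operation of a map of simplices on sections of a simplicial presheaf. -/
abbrev lact {k l : SimplexCategory} {V : D} (ψ : l ⟶ k) (p : (P.obj (op k)).obj (op V)) :
    (P.obj (op l)).obj (op V) :=
  (P.map ψ.op).app (op V) p

theorem lres_lres {k : SimplexCategory} {V W Z : D} (g : W ⟶ V) (g' : Z ⟶ W) (p : (P.obj (op k)).obj (op V)) :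
    lres P g' (lres P g p) = lres P (g' ≫ g) p :=
  ((P.obj (op k)).map_comp_apply g.op g'.op p).symm

theorem lres_id {k : SimplexCategory} {V : D} (p : (P.obj (op k)).obj (op V)) : lres P (𝟙 V) p = p :=
  (P.obj (op k)).map_id_apply _ p

theorem lact_lres {k l : SimplexCategory} {V W : D} (ψ : l ⟶ k) (g : W ⟶ V) (p : (P.obj (op k)).obj (op V)) :
    lact P ψ (lres P g p) = lres P g (lact P ψ p) :=
  NatTrans.naturality_apply (P.map ψ.op) g.op p

theorem lact_lact {k l m : SimplexCategory} {V : D} (ψ : l ⟶ k) (χ : m ⟶ l) (p : (P.obj (op k)).obj (op V)) :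
    lact P χ (lact P ψ p) = lact P (χ ≫ ψ) p := by
  change _ = (P.map (ψ.op ≫ χ.op)).app (op V) p
  rw [P.map_comp]
  rfl

theorem lact_id {k : SimplexCategory} {V : D} (p : (P.obj (op k)).obj (op V)) : lact P (𝟙 k) p = p := by
  change (P.map (𝟙 (op k))).app (op V) p = p
  rw [P.map_id]
  rfl

/-- A diagram on the simplices over a simplex with compatible labels. -/
structure LDiag (a : SimplexCategory) : Type u where
  obj : ∀ {k : SimplexCategory}, (k ⟶ a) → D
  map : ∀ {k l : SimplexCategory} (ψ : l ⟶ k) (φ : k ⟶ a), obj φ ⟶ obj (ψ ≫ φ)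
  map_id : ∀ {k : SimplexCategory} (φ : k ⟶ a), map (𝟙 k) φ = 𝟙 (obj φ)
  map_comp : ∀ {k l m : SimplexCategory} (χ : m ⟶ l) (ψ : l ⟶ k) (φ : k ⟶ a),
    map (χ ≫ ψ) φ = map ψ φ ≫ map χ (ψ ≫ φ)
  lbl : ∀ {k : SimplexCategory} (φ : k ⟶ a), (P.obj (op k)).obj (op (obj φ))
  lbl_map : ∀ {k l : SimplexCategory} (ψ : l ⟶ k) (φ : k ⟶ a),
    lact P ψ (lbl φ) = lres P (map ψ φ) (lbl (ψ ≫ φ))

variable {P}

namespace LDiag

theorem ext' {a : SimplexCategory} {A A' : LDiag P a}
    (ho : ∀ {k : SimplexCategory} (φ : k ⟶ a), A.obj φ = A'.obj φ)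
    (hm : ∀ {k l : SimplexCategory} (ψ : l ⟶ k) (φ : k ⟶ a),
      A.map ψ φ ≫ eqToHom (ho (ψ ≫ φ)) = eqToHom (ho φ) ≫ A'.map ψ φ)
    (hl : ∀ {k : SimplexCategory} (φ : k ⟶ a), A.lbl φ = lres P (eqToHom (ho φ)) (A'.lbl φ)) : A = A' := by
  obtain ⟨o, f, i, c, l, m⟩ := A
  obtain ⟨o', f', i', c', l', m'⟩ := A'
  obtain rfl : @o = @o' := by
    funext k φ
    exact ho φ
  obtain rfl : @f = @f' := by
    funext k l ψ φ
    simpa using hm ψ φ
  obtain rfl : @l = @l' := by
    funext k φ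
    exact (hl φ).trans (lres_id P (l' φ))
  rfl

/-- Pulling back along a map of simplices. -/
def pull {a b : SimplexCategory} (θ : b ⟶ a) (A : LDiag P a) : LDiag P b where
  obj φ := A.obj (φ ≫ θ)
  map ψ φ := A.map ψ (φ ≫ θ)
  map_id φ := A.map_id (φ ≫ θ)
  map_comp χ ψ φ := A.map_comp χ ψ (φ ≫ θ)
  lbl φ := A.lbl (φ ≫ θ)
  lbl_map ψ φ := A.lbl_map ψ (φ ≫ θ)

/-- The value at the top simplex. -/
abbrev top {a : SimplexCategory} (A : LDiag P a) : D := A.obj (𝟙 a)

/-- The map from the top simplex to the pullback along a map. -/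
abbrev toPull {a b : SimplexCategory} (θ : b ⟶ a) (A : LDiag P a) : A.top ⟶ (A.pull θ).top :=
  A.map θ (𝟙 a)

theorem toPull_congr {a b : SimplexCategory} {A A' : LDiag P a} (h : A = A') (θ : b ⟶ a) :
    A.toPull θ ≫ eqToHom (congrArg (fun X => (LDiag.pull θ X).top) h) =
      eqToHom (congrArg LDiag.top h) ≫ A'.toPull θ := by
  subst h
  simp

theorem lbl_congr {a : SimplexCategory} {A A' : LDiag P a} (h : A = A') :
    A.lbl (𝟙 a) = lres P (eqToHom (congrArg LDiag.top h)) (A'.lbl (𝟙 a)) := by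
  subst h
  exact (lres_id P _).symm

end LDiag

variable (P) in
/-- All labelled diagrams, as a simplicial semi-representable object. -/
def luniv : SimplicialObject (FormalCoproduct.{u} D) where
  obj a := ⟨LDiag P a.unop, fun A => A.top⟩
  map θ := ⟨fun A => A.pull θ.unop, fun A => A.toPull θ.unop⟩
  map_id a := FormalCoproduct.hom_ext rfl fun A => by
    simp only [eqToHom_refl, Category.comp_id]
    exact A.map_id (𝟙 a.unop)
  map_comp {a b c} θ θ' := FormalCoproduct.hom_ext rfl fun A => by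
    simp only [eqToHom_refl, Category.comp_id]
    exact A.map_comp θ'.unop θ.unop (𝟙 a.unop)

variable (P) in
/-- Boundaries of labels. -/
structure LBdry (n : ℕ) (U : D) where
  s : ∀ {k : SimplexCategory} (φ : k ⟶ ⦋n + 1⦌), ¬ Function.Surjective φ.toOrderHom → (P.obj (op k)).obj (op U)
  w : ∀ {k l : SimplexCategory} (ψ : l ⟶ k) (φ : k ⟶ ⦋n + 1⦌) (h : ¬ Function.Surjective φ.toOrderHom)
    (h' : ¬ Function.Surjective (ψ ≫ φ).toOrderHom), s (ψ ≫ φ) h' = lact P ψ (s φ h)

/-- Boundaries of labels are locally filled. -/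
def HasLFills (J : GrothendieckTopology D) (P : SimplicialObject (Dᵒᵖ ⥤ Type u)) : Prop :=
  ∀ (n : ℕ) (U : D) (b : LBdry P n U), ∃ S ∈ J U, ∀ ⦃V : D⦄ (g : V ⟶ U), S g →
    ∃ x : (P.obj (op ⦋n + 1⦌)).obj (op V),
      ∀ {k : SimplexCategory} (φ : k ⟶ ⦋n + 1⦌) (h : ¬ Function.Surjective φ.toOrderHom),
        lact P φ x = lres P g (b.s φ h)

section fill

variable {n : ℕ} {U : D} (b : Bdry (luniv P) n U)

/-- The index of a boundary at a map. -/
def lidx {k : SimplexCategory} (φ : k ⟶ ⦋n + 1⦌) (h : ¬ Function.Surjective φ.toOrderHom) : LDiag P k :=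
  (b.s φ h).f PUnit.unit

/-- The component of a boundary at a map. -/
def lcomp {k : SimplexCategory} (φ : k ⟶ ⦋n + 1⦌) (h : ¬ Function.Surjective φ.toOrderHom) :
    U ⟶ (lidx b φ h).top :=
  (b.s φ h).φ PUnit.unit

theorem lidx_comp {k l : SimplexCategory} (ψ : l ⟶ k) (φ : k ⟶ ⦋n + 1⦌)
    (h : ¬ Function.Surjective φ.toOrderHom) (h' : ¬ Function.Surjective (ψ ≫ φ).toOrderHom) :
    lidx b (ψ ≫ φ) h' = (lidx b φ h).pull ψ := by
  obtain ⟨h1, -⟩ := (FormalCoproduct.hom_ext_iff' _ _).1 (b.w ψ φ h h') PUnit.unit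
  exact h1

theorem lcomp_comp {k l : SimplexCategory} (ψ : l ⟶ k) (φ : k ⟶ ⦋n + 1⦌)
    (h : ¬ Function.Surjective φ.toOrderHom) (h' : ¬ Function.Surjective (ψ ≫ φ).toOrderHom) :
    lcomp b (ψ ≫ φ) h' ≫ eqToHom (congrArg LDiag.top (lidx_comp b ψ φ h h')) =
      lcomp b φ h ≫ (lidx b φ h).toPull ψ := by
  obtain ⟨h1, h2⟩ := (FormalCoproduct.hom_ext_iff' _ _).1 (b.w ψ φ h h') PUnit.unit
  exact h2

/-- The boundary of labels of a boundary of diagrams. -/
def lblBdry : LBdry P n U where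
  s φ h := lres P (lcomp b φ h) ((lidx b φ h).lbl (𝟙 _))
  w {k l} ψ φ h h' := by
    have e : lact P ψ ((lidx b φ h).lbl (𝟙 k)) =
        lres P ((lidx b φ h).toPull ψ) (((lidx b φ h).pull ψ).lbl (𝟙 l)) := (lidx b φ h).lbl_map ψ (𝟙 k)
    rw [lact_lres, e, lres_lres, LDiag.lbl_congr (lidx_comp b ψ φ h h'), lres_lres, lcomp_comp b ψ φ h h']

variable {V : D} (g : V ⟶ U) (x : (P.obj (op ⦋n + 1⦌)).obj (op V))
  (hx : ∀ {k : SimplexCategory} (φ : k ⟶ ⦋n + 1⦌) (h : ¬ Function.Surjective φ.toOrderHom),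
    lact P φ x = lres P g ((lblBdry b).s φ h))

open Classical in
/-- The objects of the filling diagram. -/
noncomputable def lfillObj {k : SimplexCategory} (φ : k ⟶ ⦋n + 1⦌) (V : D) : D :=
  if h : Function.Surjective φ.toOrderHom then V else (lidx b φ h).top

theorem lfillObj_pos {k : SimplexCategory} {φ : k ⟶ ⦋n + 1⦌} (h : Function.Surjective φ.toOrderHom) :
    lfillObj b φ V = V := dif_pos h

theorem lfillObj_neg {k : SimplexCategory} {φ : k ⟶ ⦋n + 1⦌} (h : ¬ Function.Surjective φ.toOrderHom) :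
    lfillObj b φ V = (lidx b φ h).top := dif_neg h

open Classical in
/-- The maps of the filling diagram. -/
noncomputable def lfillMap {k l : SimplexCategory} (ψ : l ⟶ k) (φ : k ⟶ ⦋n + 1⦌) :
    lfillObj b φ V ⟶ lfillObj b (ψ ≫ φ) V :=
  if hφ : Function.Surjective φ.toOrderHom then
    if hψφ : Function.Surjective (ψ ≫ φ).toOrderHom then
      eqToHom ((lfillObj_pos b hφ).trans (lfillObj_pos b hψφ).symm)
    else eqToHom (lfillObj_pos b hφ) ≫ g ≫ lcomp b (ψ ≫ φ) hψφ ≫ eqToHom (lfillObj_neg b hψφ).symm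
  else
    eqToHom (lfillObj_neg b hφ) ≫ (lidx b φ hφ).toPull ψ ≫
      eqToHom ((congrArg LDiag.top (lidx_comp b ψ φ hφ (not_surj_comp ψ φ hφ))).symm.trans
        (lfillObj_neg b (not_surj_comp ψ φ hφ)).symm)

open Classical in
/-- The labels of the filling diagram. -/
noncomputable def lfillLbl {k : SimplexCategory} (φ : k ⟶ ⦋n + 1⦌) : (P.obj (op k)).obj (op (lfillObj b φ V)) :=
  if h : Function.Surjective φ.toOrderHom then lres P (eqToHom (lfillObj_pos b h)) (lact P φ x)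
  else lres P (eqToHom (lfillObj_neg b h)) ((lidx b φ h).lbl (𝟙 k))

/-- The filling diagram. -/
noncomputable def lfillDiag : LDiag P ⦋n + 1⦌ where
  obj φ := lfillObj b φ V
  map ψ φ := lfillMap b g ψ φ
  map_id {k} φ := by
    classical
    by_cases h : Function.Surjective φ.toOrderHom
    · rw [lfillMap, dif_pos h, dif_pos (show Function.Surjective (𝟙 k ≫ φ).toOrderHom from h)]
      rfl
    · rw [lfillMap, dif_neg h]
      have e : (lidx b φ h).toPull (𝟙 k) = 𝟙 _ := (lidx b φ h).map_id (𝟙 k)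
      rw [e]
      simp
  map_comp {k l m} χ ψ φ := by
    classical
    by_cases h : Function.Surjective φ.toOrderHom
    · by_cases h₁ : Function.Surjective (ψ ≫ φ).toOrderHom
      · by_cases h₂ : Function.Surjective (χ ≫ ψ ≫ φ).toOrderHom
        · rw [lfillMap, dif_pos h, dif_pos (show Function.Surjective ((χ ≫ ψ) ≫ φ).toOrderHom from h₂),
            lfillMap, dif_pos h, dif_pos h₁, lfillMap, dif_pos h₁, dif_pos h₂, eqToHom_trans]
        · rw [lfillMap, dif_pos h, dif_neg (show ¬ Function.Surjective ((χ ≫ ψ) ≫ φ).toOrderHom from h₂),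
            lfillMap, dif_pos h, dif_pos h₁, lfillMap, dif_pos h₁, dif_neg h₂, eqToHom_trans_assoc]
          rfl
      · have h₂ : ¬ Function.Surjective (χ ≫ ψ ≫ φ).toOrderHom := not_surj_comp χ _ h₁
        rw [lfillMap, dif_pos h, dif_neg (show ¬ Function.Surjective ((χ ≫ ψ) ≫ φ).toOrderHom from h₂),
          lfillMap, dif_pos h, dif_neg h₁, lfillMap, dif_neg h₁]
        simp only [Category.assoc, eqToHom_trans_assoc, eqToHom_refl, Category.id_comp]
        rw [← reassoc_of% (lcomp_comp b χ (ψ ≫ φ) h₁ h₂)]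
        simp only [eqToHom_trans]
        rfl
    · have h₁ := not_surj_comp ψ φ h
      have h₂ : ¬ Function.Surjective (χ ≫ ψ ≫ φ).toOrderHom := not_surj_comp χ _ h₁
      rw [lfillMap, dif_neg h, lfillMap, dif_neg h, lfillMap, dif_neg h₁]
      simp only [Category.assoc, eqToHom_trans_assoc, eqToHom_refl, Category.id_comp]
      have e := LDiag.toPull_congr (lidx_comp b ψ φ h h₁).symm χ
      rw [show (lidx b φ h).toPull (χ ≫ ψ) = (lidx b φ h).toPull ψ ≫ ((lidx b φ h).pull ψ).toPull χ from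
        (lidx b φ h).map_comp χ ψ (𝟙 k)]
      rw [← reassoc_of% e]
      simp only [Category.assoc, eqToHom_trans]
  lbl φ := lfillLbl b x φ
  lbl_map {k l} ψ φ := by
    classical
    by_cases h : Function.Surjective φ.toOrderHom
    · by_cases h₁ : Function.Surjective (ψ ≫ φ).toOrderHom
      · rw [lfillMap, dif_pos h, dif_pos h₁, lfillLbl, dif_pos h, lfillLbl, dif_pos h₁, lres_lres,
          eqToHom_trans, lact_lres, lact_lact]
      · rw [lfillMap, dif_pos h, dif_neg h₁, lfillLbl, dif_pos h, lfillLbl, dif_neg h₁, lres_lres, lact_lres,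
          lact_lact, hx (ψ ≫ φ) h₁]
        simp only [lblBdry, lres_lres, Category.assoc, eqToHom_trans, eqToHom_refl, Category.comp_id]
    · have h₁ := not_surj_comp ψ φ h
      rw [lfillMap, dif_neg h, lfillLbl, dif_neg h, lfillLbl, dif_neg h₁, lres_lres, lact_lres,
        (lidx b φ h).lbl_map ψ (𝟙 k), lres_lres, LDiag.lbl_congr (lidx_comp b ψ φ h h₁), lres_lres]
      refine congrArg₂ (lres P) ?_ rfl
      simp only [Category.assoc, eqToHom_trans, eqToHom_refl, Category.comp_id]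

theorem pull_lfillDiag {k : SimplexCategory} (φ : k ⟶ ⦋n + 1⦌) (h : ¬ Function.Surjective φ.toOrderHom) :
    (lfillDiag b g x hx).pull φ = lidx b φ h := by
  have ho : ∀ {j : SimplexCategory} (χ : j ⟶ k), lfillObj b (χ ≫ φ) V = (lidx b φ h).obj χ := fun χ =>
    (lfillObj_neg b (not_surj_comp χ φ h)).trans (congrArg LDiag.top (lidx_comp b χ φ h _))
  refine LDiag.ext' ho (fun {j l} ψ χ => ?_) fun {j} χ => ?_
  · change lfillMap b g ψ (χ ≫ φ) ≫ _ = _
    rw [lfillMap, dif_neg (not_surj_comp χ φ h)]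
    have e := LDiag.toPull_congr (lidx_comp b χ φ h (not_surj_comp χ φ h)) ψ
    simp only [Category.assoc, eqToHom_trans]
    have e' : ((lidx b φ h).pull χ).toPull ψ = (lidx b φ h).map ψ χ := rfl
    rw [e'] at e
    rw [← eqToHom_trans (lfillObj_neg b (not_surj_comp χ φ h)) (congrArg LDiag.top (lidx_comp b χ φ h _)),
      Category.assoc]
    exact congrArg (_ ≫ ·) e
  · change lfillLbl b x (χ ≫ φ) = _
    rw [lfillLbl, dif_neg (not_surj_comp χ φ h), LDiag.lbl_congr (lidx_comp b χ φ h (not_surj_comp χ φ h)),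
      lres_lres, eqToHom_trans]
    rfl

include hx in
theorem exists_lfill : ∃ y : (FormalCoproduct.incl D).obj V ⟶ (luniv P).obj (op ⦋n + 1⦌),
    ∀ {k : SimplexCategory} (φ : k ⟶ ⦋n + 1⦌) (h : ¬ Function.Surjective φ.toOrderHom),
      y ≫ (luniv P).map φ.op = (FormalCoproduct.incl D).map g ≫ b.s φ h := by
  classical
  have htop : (lfillDiag b g x hx).top = V :=
    lfillObj_pos b (φ := 𝟙 ⦋n + 1⦌) (fun y => ⟨y, rfl⟩)
  refine ⟨FormalCoproduct.Hom.fromIncl (lfillDiag b g x hx) (eqToHom htop.symm), fun {k} φ hφ => ?_⟩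
  refine FormalCoproduct.hom_ext (funext fun _ => pull_lfillDiag b g x hx φ hφ) fun _ => ?_
  simp only [luniv, FormalCoproduct.category_comp_φ, FormalCoproduct.Hom.fromIncl_φ]
  change (eqToHom _ ≫ lfillMap b g φ (𝟙 ⦋n + 1⦌)) ≫ eqToHom _ = g ≫ lcomp b φ hφ
  rw [lfillMap, dif_pos (show Function.Surjective (SimplexCategory.Hom.toOrderHom (𝟙 ⦋n + 1⦌)) from
    fun y => ⟨y, rfl⟩),
    dif_neg (show ¬ Function.Surjective (φ ≫ 𝟙 ⦋n + 1⦌).toOrderHom from hφ)]
  simp only [Category.assoc, eqToHom_trans_assoc, eqToHom_refl, Category.id_comp, eqToHom_trans]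
  exact congrArg (fun t => g ≫ t) (Category.comp_id _)

end fill

theorem hasFills_luniv {J : GrothendieckTopology D} (h : HasLFills J P) : HasFills J (luniv P) := by
  intro n U b
  obtain ⟨S, hS, hS'⟩ := h n U (lblBdry b)
  refine ⟨S, hS, fun V g hg => ?_⟩
  obtain ⟨x, hx⟩ := hS' g hg
  exact exists_lfill b g x hx

variable (P) in
/-- The constant diagram of a vertex. -/
def LDiag.ofVertex {V : D} (p : (P.obj (op ⦋0⦌)).obj (op V)) : LDiag P ⦋0⦌ where
  obj _ := V
  map _ _ := 𝟙 V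
  map_id _ := rfl
  map_comp _ _ _ := (Category.comp_id _).symm
  lbl φ := lact P φ p
  lbl_map ψ φ := by rw [lres_id, lact_lact]

theorem nonempty_vertex_luniv {V : D} (p : (P.obj (op ⦋0⦌)).obj (op V)) :
    Nonempty ((FormalCoproduct.incl D).obj V ⟶ (luniv P).obj (op ⦋0⦌)) :=
  ⟨FormalCoproduct.Hom.fromIncl (LDiag.ofVertex P p) (𝟙 V)⟩

theorem hom_ext_fromIncl {A B : FormalCoproduct.{u} D} {α β : A ⟶ B}
    (h : ∀ i, FormalCoproduct.Hom.fromIncl i (𝟙 (A.obj i)) ≫ α =
      FormalCoproduct.Hom.fromIncl i (𝟙 (A.obj i)) ≫ β) : α = β := by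
  refine FormalCoproduct.hom_ext (funext fun i => ?_) fun i => ?_
  · exact congrFun (congrArg (fun t => t.f) (h i)) PUnit.unit
  · obtain ⟨h₁, h₂⟩ := (FormalCoproduct.hom_ext_iff' _ _).1 (h i) PUnit.unit
    have h₃ : (𝟙 _ ≫ α.φ i) ≫ eqToHom (congrArg B.obj h₁) = 𝟙 _ ≫ β.φ i := h₂
    rw [Category.id_comp, Category.id_comp] at h₃
    exact h₃

section proj

variable (P) {a : SimplexCategory} {Z : FormalCoproduct.{u} D}

/-- The map out of the labelled diagrams of degree `a` given by a map on labels. -/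
def lproj (τ : ∀ {V : D}, (P.obj (op a)).obj (op V) → ((FormalCoproduct.incl D).obj V ⟶ Z)) :
    (luniv P).obj (op a) ⟶ Z where
  f A := (τ (A.lbl (𝟙 a))).f PUnit.unit
  φ A := (τ (A.lbl (𝟙 a))).φ PUnit.unit

theorem fromIncl_lproj (τ : ∀ {V : D}, (P.obj (op a)).obj (op V) → ((FormalCoproduct.incl D).obj V ⟶ Z))
    (A : LDiag P a) :
    FormalCoproduct.Hom.fromIncl A (𝟙 A.top) ≫ lproj P τ = τ (A.lbl (𝟙 a)) := by
  refine FormalCoproduct.hom_ext rfl fun i => ?_
  simp [lproj]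
  exact Category.id_comp _

theorem map_lproj {b : SimplexCategory} (ψ : b ⟶ a)
    (τ : ∀ {V : D}, (P.obj (op b)).obj (op V) → ((FormalCoproduct.incl D).obj V ⟶ Z))
    (τ' : ∀ {V : D}, (P.obj (op a)).obj (op V) → ((FormalCoproduct.incl D).obj V ⟶ Z))
    (hτ : ∀ {V W : D} (g : W ⟶ V) (p : (P.obj (op b)).obj (op V)),
      τ (lres P g p) = (FormalCoproduct.incl D).map g ≫ τ p)
    (h : ∀ {V : D} (p : (P.obj (op a)).obj (op V)), τ (lact P ψ p) = τ' p) :
    (luniv P).map ψ.op ≫ lproj P τ = lproj P τ' := by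
  refine hom_ext_fromIncl fun A => ?_
  refine Eq.trans ?_ (fromIncl_lproj P τ' A).symm
  rw [← h]
  have e : lact P ψ (A.lbl (𝟙 a)) = lres P (A.toPull ψ) ((A.pull ψ).lbl (𝟙 b)) := A.lbl_map ψ (𝟙 a)
  rw [e, hτ, ← fromIncl_lproj P τ (A.pull ψ)]
  have e2 : FormalCoproduct.Hom.fromIncl A (𝟙 (((luniv P).obj (op a)).obj A)) ≫ (luniv P).map ψ.op =
      (FormalCoproduct.incl D).map (A.toPull ψ) ≫
        (FormalCoproduct.Hom.fromIncl (A.pull ψ) (𝟙 (A.pull ψ).top) :
          (FormalCoproduct.incl D).obj (A.pull ψ).top ⟶ (luniv P).obj (op b)) := by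
    refine FormalCoproduct.hom_ext rfl fun i => ?_
    simp [luniv]
    exact (Category.id_comp _).trans (Category.comp_id _).symm
  exact ((Category.assoc _ _ _).symm.trans (congrArg (· ≫ _) e2)).trans (Category.assoc _ _ _)

end proj

end GrothLib.Hyper25
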