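import Groth.Agent.Lib.Hyper25.Fills
import Groth.Agent.Lib.Hyper25.Refine

/-!
# Pullbacks of hypercoverings
-/

set_option autoImplicit false
set_option backward.isDefEq.respectTransparency false
set_option backward.isDefEq.respectTransparency.types false
set_option linter.unusedSectionVars false

universe u

open CategoryTheory CategoryTheory.Limits Opposite Simplicial
open GrothLib.Hyper19 (repr reprIncl incl_hom_ext)

namespace GrothLib.Hyper25

section cosk

variable {D : Type u} [SmallCategory D]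
  [∀ (n : ℕ) (F : (SimplexCategory.Truncated n)ᵒᵖ ⥤ Limits.FormalCoproduct.{u} D),
    (SimplexCategory.Truncated.inclusion n).op.HasRightKanExtension F]
  {K : SimplicialObject (FormalCoproduct.{u} D)}

theorem map_pr {L : SimplicialObject (FormalCoproduct.{u} D)} (b : K ⟶ L) (n : ℕ) (m : SimplexCategory)
    {k : SimplexCategory} (hk : k.len ≤ n) (θ : k ⟶ m) :
    ((SimplicialObject.truncation n ⋙ SimplicialObject.Truncated.cosk n).map b).app (op m) ≫ pr n m hk θ =
      pr n m hk θ ≫ b.app (op k) := by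
  have h := congrArg (fun t => NatTrans.app t (op (⟨k, hk⟩ : SimplexCategory.Truncated n)))
    ((SimplicialObject.coskAdj (C := FormalCoproduct.{u} D) n).counit.naturality
      ((SimplicialObject.truncation n).map b))
  rw [pr, pr]
  refine ((Category.assoc _ _ _).symm.trans (congrArg (· ≫ _)
    (((SimplicialObject.truncation n ⋙ SimplicialObject.Truncated.cosk n).map b).naturality θ.op).symm)).trans ?_
  rw [Category.assoc, Category.assoc]
  exact congrArg (_ ≫ ·) h

variable {n m : ℕ} {U : D}
  (fam : ∀ {k : SimplexCategory}, k.len ≤ n → (k ⟶ ⦋m⦌) → ((FormalCoproduct.incl D).obj U ⟶ K.obj (op k)))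
  (hfam : ∀ {k l : SimplexCategory} (hk : k.len ≤ n) (hl : l.len ≤ n) (ψ : l ⟶ k) (θ : k ⟶ ⦋m⦌),
    fam hl (ψ ≫ θ) = fam hk θ ≫ K.map ψ.op)

include hfam in
theorem exists_coskSec : ∃ a : (FormalCoproduct.incl D).obj U ⟶
    ((SimplicialObject.Truncated.cosk n).obj ((SimplicialObject.truncation n).obj K)).obj (op ⦋m⦌),
    ∀ {k : SimplexCategory} (hk : k.len ≤ n) (θ : k ⟶ ⦋m⦌), a ≫ pr n ⦋m⦌ hk θ = fam hk θ := by
  let adj := SimplicialObject.coskAdj (C := FormalCoproduct.{u} D) n
  let μ : (SimplicialObject.truncation n).obj (repr U m) ⟶ (SimplicialObject.truncation n).obj K :=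
    { app := fun k =>
        { f := fun a => (fam k.unop.property a.down).f PUnit.unit
          φ := fun a => (fam k.unop.property a.down).φ PUnit.unit }
      naturality := fun k l ψ => by
        refine incl_hom_ext (k := op k.unop.obj) fun θ => ?_
        have h := hfam k.unop.property l.unop.property ψ.unop.hom θ
        rw [← FormalCoproduct.Hom.fromIncl_asSigma (fam l.unop.property (ψ.unop.hom ≫ θ)),
          ← FormalCoproduct.Hom.fromIncl_asSigma (fam k.unop.property θ)] at h
        refine Eq.trans ?_ (Eq.trans h ?_)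
        · refine FormalCoproduct.hom_ext rfl fun i => ?_
          simp [reprIncl, FormalCoproduct.Hom.asSigma, SimplicialObject.truncation, Hyper19.repr]
          exact Category.id_comp _
        · refine FormalCoproduct.hom_ext rfl fun i => ?_
          simp [reprIncl, FormalCoproduct.Hom.asSigma, SimplicialObject.truncation, Hyper19.repr]
          exact (Category.id_comp _).symm }
  let μ' : repr U m ⟶ (SimplicialObject.Truncated.cosk n).obj ((SimplicialObject.truncation n).obj K) :=
    adj.homEquiv _ _ μ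
  refine ⟨reprIncl U m (k := op ⦋m⦌) (𝟙 _) ≫ μ'.app (op ⦋m⦌), fun {k} hk θ => ?_⟩
  let k₁ : (SimplexCategory.Truncated n)ᵒᵖ := op ⟨k, hk⟩
  have hμ : μ'.app (op k) ≫ (adj.counit.app ((SimplicialObject.truncation n).obj K)).app k₁ = μ.app k₁ :=
    congrArg (fun t => t.app k₁) (((adj.homEquiv_counit _ _ μ').symm).trans ((adj.homEquiv _ _).symm_apply_apply μ))
  have hy : reprIncl U m (k := op k) θ ≫ μ.app k₁ = fam hk θ := by
    rw [← FormalCoproduct.Hom.fromIncl_asSigma (fam hk θ)]
    refine FormalCoproduct.hom_ext rfl fun j => ?_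
    simp [reprIncl, FormalCoproduct.Hom.asSigma, μ, k₁]
    exact Category.id_comp _
  have hr : reprIncl U m (k := op ⦋m⦌) (𝟙 _) ≫ (repr U m).map θ.op = reprIncl U m (k := op k) θ :=
    FormalCoproduct.hom_ext (funext fun _ => ULift.ext _ _ (Category.comp_id _)) fun j => by
      simp [reprIncl, Hyper19.repr]
  rw [← hy, ← hr, ← hμ, pr]
  simp only [Category.assoc]
  refine congrArg (_ ≫ ·) ?_
  exact ((Category.assoc _ _ _).symm.trans (congrArg (· ≫ _) (μ'.naturality θ.op).symm)).trans
    (Category.assoc _ _ _)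

end cosk

variable {C : Type u} [SmallCategory C] [HasPullbacks C] {J : GrothendieckTopology C} {X : C}
  [∀ (n : ℕ) (F : (SimplexCategory.Truncated n)ᵒᵖ ⥤ Limits.FormalCoproduct.{u} (Over X)),
    (SimplexCategory.Truncated.inclusion n).op.HasRightKanExtension F]
  {K L M P : SimplicialObject (FormalCoproduct.{u} (Over X))} {a : K ⟶ L} {b : M ⟶ L}
  {p1 : P ⟶ K} {p2 : P ⟶ M} (hP : IsPullback p1 p2 a b)

include hP

theorem hasFills_pullback (hK : HasFills (J.over X) K)
    (hγ : ∀ (n : ℕ) (Q : FormalCoproduct.{u} (Over X))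
      (q1 : Q ⟶ L.obj (op (SimplexCategory.mk (n + 1))))
      (q2 : Q ⟶ ((SimplicialObject.truncation n ⋙ SimplicialObject.Truncated.cosk n).obj M).obj
        (op (SimplexCategory.mk (n + 1))))
      (γ : M.obj (op (SimplexCategory.mk (n + 1))) ⟶ Q),
      IsPullback q1 q2 (((SimplicialObject.coskAdj n).unit.app L).app (op (SimplexCategory.mk (n + 1))))
        (((SimplicialObject.truncation n ⋙ SimplicialObject.Truncated.cosk n).map b).app
          (op (SimplexCategory.mk (n + 1)))) →
      γ ≫ q1 = b.app (op (SimplexCategory.mk (n + 1))) →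
      γ ≫ q2 = ((SimplicialObject.coskAdj n).unit.app M).app (op (SimplexCategory.mk (n + 1))) →
      Hyper.IsSRCovering (J.over X) γ) :
    HasFills (J.over X) P := by
  intro n U bd
  let bK : Bdry K n U :=
    { s := fun φ h => bd.s φ h ≫ p1.app _
      w := fun {k l} ψ φ h h' => by
        rw [bd.w ψ φ h h', Category.assoc, Category.assoc, p1.naturality] }
  let bM : Bdry M n U :=
    { s := fun φ h => bd.s φ h ≫ p2.app _
      w := fun {k l} ψ φ h h' => by
        rw [bd.w ψ φ h h', Category.assoc, Category.assoc, p2.naturality] }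
  obtain ⟨m₀, hm₀⟩ := exists_coskSec (K := M) (n := n) (m := n + 1)
    (fun {k} hk θ => bM.s θ (Hyper19.not_surjective_of_len_le hk θ))
    (fun {k l} hk hl ψ θ => bM.w ψ θ _ _)
  obtain ⟨S, hS, h⟩ := hK n U bK
  let R : Sieve U :=
    { arrows := fun V g => ∃ l : (FormalCoproduct.incl (Over X)).obj V ⟶ P.obj (op ⦋n + 1⦌),
        ∀ {k : SimplexCategory} (φ : k ⟶ ⦋n + 1⦌) (h : ¬ Function.Surjective φ.toOrderHom),
          l ≫ P.map φ.op = (FormalCoproduct.incl (Over X)).map g ≫ bd.s φ h
      downward_closed := by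
        rintro V W g ⟨l, hl⟩ e
        refine ⟨(FormalCoproduct.incl (Over X)).map e ≫ l, fun {k} φ hφ => ?_⟩
        rw [Category.assoc, hl φ hφ, Functor.map_comp, Category.assoc] }
  refine ⟨R, (J.over X).transitive hS R fun V g hg => ?_, fun V g hg => hg⟩
  obtain ⟨x, hx⟩ := h g hg
  let uL := ((SimplicialObject.coskAdj n).unit.app L).app (op ⦋n + 1⦌)
  let cb := ((SimplicialObject.truncation n ⋙ SimplicialObject.Truncated.cosk n).map b).app (op ⦋n + 1⦌)
  let uM := ((SimplicialObject.coskAdj n).unit.app M).app (op ⦋n + 1⦌)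
  have w : (x ≫ a.app (op ⦋n + 1⦌)) ≫ uL = ((FormalCoproduct.incl (Over X)).map g ≫ m₀) ≫ cb := by
    refine pr_ext (K := L) fun {k} hk θ => ?_
    have hθ := Hyper19.not_surjective_of_len_le hk θ
    rw [Category.assoc, unit_pr, Category.assoc, ← a.naturality, ← Category.assoc, hx θ hθ,
      Category.assoc, Category.assoc]
    dsimp only [cb]
    rw [Category.assoc, map_pr, Category.assoc, reassoc_of% (hm₀ hk θ)]
    refine congrArg (_ ≫ ·) ?_
    refine Eq.trans ?_ (Category.assoc _ _ _).symm
    refine congrArg (bd.s θ hθ ≫ ·) ?_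
    exact congrArg (fun t => NatTrans.app t (op k)) hP.w
  have wu : b.app (op ⦋n + 1⦌) ≫ uL = uM ≫ cb :=
    congrArg (fun t => NatTrans.app t (op ⦋n + 1⦌))
      ((SimplicialObject.coskAdj (C := FormalCoproduct.{u} (Over X)) n).unit.naturality b)
  let γ := pullback.lift (f := uL) (g := cb) (b.app (op ⦋n + 1⦌)) uM wu
  have hcov := hγ n (pullback uL cb) (pullback.fst uL cb) (pullback.snd uL cb) γ
    (IsPullback.of_hasPullback uL cb) (pullback.lift_fst _ _ _) (pullback.lift_snd _ _ _)
  obtain ⟨T, hT, hT'⟩ := exists_lift_of_isSRCovering γ hcov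
    (pullback.lift (x ≫ a.app (op ⦋n + 1⦌)) ((FormalCoproduct.incl (Over X)).map g ≫ m₀) w)
  refine (J.over X).superset_covering (fun W e he => ?_) hT
  obtain ⟨z, hz⟩ := hT' e he
  have hz1 : z ≫ b.app (op ⦋n + 1⦌) = (FormalCoproduct.incl (Over X)).map e ≫ x ≫ a.app (op ⦋n + 1⦌) := by
    have h' := congrArg (· ≫ pullback.fst uL cb) hz
    simpa [γ] using h'
  have hz2 : z ≫ uM = (FormalCoproduct.incl (Over X)).map e ≫ (FormalCoproduct.incl (Over X)).map g ≫ m₀ := by
    have h' := congrArg (· ≫ pullback.snd uL cb) hz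
    simpa [γ] using h'
  have sq := fun k : SimplexCategory => hP.map ((evaluation _ _).obj (op k))
  refine ⟨(sq ⦋n + 1⦌).lift ((FormalCoproduct.incl (Over X)).map e ≫ x) z
    ((Category.assoc _ _ _).trans hz1.symm), fun {k} φ hφ => ?_⟩
  apply (sq k).hom_ext
  · dsimp only [evaluation_obj_map, evaluation_obj_obj]
    rw [Category.assoc, p1.naturality, ← Category.assoc]
    refine (congrArg (· ≫ K.map φ.op) ((sq ⦋n + 1⦌).lift_fst _ _ _)).trans ?_
    rw [Category.assoc, hx φ hφ, Functor.map_comp, Category.assoc, Category.assoc]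
  · dsimp only [evaluation_obj_map, evaluation_obj_obj]
    rw [Category.assoc, p2.naturality, ← Category.assoc]
    refine (congrArg (· ≫ M.map φ.op) ((sq ⦋n + 1⦌).lift_snd _ _ _)).trans ?_
    obtain ⟨i, ψ, rfl⟩ := SimplexCategory.eq_comp_δ_of_not_surjective φ hφ
    have hi : ¬ Function.Surjective (SimplexCategory.δ i).toOrderHom :=
      Hyper19.not_surjective_of_len_le (k := ⦋n⦌) le_rfl _
    have key : z ≫ M.map (SimplexCategory.δ i).op =
        (FormalCoproduct.incl (Over X)).map (e ≫ g) ≫ bM.s (SimplexCategory.δ i) hi := by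
      rw [← unit_pr (K := M) n ⦋n + 1⦌ (k := ⦋n⦌) le_rfl (SimplexCategory.δ i), ← Category.assoc, hz2,
        Category.assoc, Category.assoc, hm₀ (k := ⦋n⦌) le_rfl (SimplexCategory.δ i), Functor.map_comp,
        Category.assoc]
    rw [op_comp, M.map_comp, ← Category.assoc, key, Category.assoc, ← bM.w ψ (SimplexCategory.δ i) hi hφ,
      Category.assoc]

theorem isHypercovering_pullback (hK : Hyper.IsHypercovering J X K)
    (h0 : Hyper.IsSRCovering (J.over X) (b.app (op ⦋0⦌)))
    (hγ : ∀ (n : ℕ) (Q : FormalCoproduct.{u} (Over X))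
      (q1 : Q ⟶ L.obj (op (SimplexCategory.mk (n + 1))))
      (q2 : Q ⟶ ((SimplicialObject.truncation n ⋙ SimplicialObject.Truncated.cosk n).obj M).obj
        (op (SimplexCategory.mk (n + 1))))
      (γ : M.obj (op (SimplexCategory.mk (n + 1))) ⟶ Q),
      IsPullback q1 q2 (((SimplicialObject.coskAdj n).unit.app L).app (op (SimplexCategory.mk (n + 1))))
        (((SimplicialObject.truncation n ⋙ SimplicialObject.Truncated.cosk n).map b).app
          (op (SimplexCategory.mk (n + 1)))) →
      γ ≫ q1 = b.app (op (SimplexCategory.mk (n + 1))) →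
      γ ≫ q2 = ((SimplicialObject.coskAdj n).unit.app M).app (op (SimplexCategory.mk (n + 1))) →
      Hyper.IsSRCovering (J.over X) γ) :
    Hyper.IsHypercovering J X P := by
  refine isHypercovering (hasFills_pullback hP (hasFills_of_isHypercovering hK) hγ) ?_
  obtain ⟨S, hS, h⟩ := vertex_of_isHypercovering hK
  let R : Sieve X :=
    { arrows := fun V g => Nonempty ((FormalCoproduct.incl (Over X)).obj (Over.mk g) ⟶ P.obj (op ⦋0⦌))
      downward_closed := by
        rintro V W g ⟨l⟩ e
        exact ⟨(FormalCoproduct.incl (Over X)).map (Over.homMk e : Over.mk (e ≫ g) ⟶ Over.mk g) ≫ l⟩ }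
  refine ⟨R, J.transitive hS R fun V g hg => ?_, fun V g hg => hg⟩
  obtain ⟨x⟩ := h g hg
  obtain ⟨T, hT, hT'⟩ := exists_lift_of_isSRCovering (b.app (op ⦋0⦌)) h0 (x ≫ a.app (op ⦋0⦌))
  rw [GrothendieckTopology.mem_over_iff] at hT
  refine J.superset_covering (fun W e he => ?_) hT
  rw [Sieve.overEquiv_iff] at he
  obtain ⟨z, hz⟩ := hT' _ he
  exact ⟨(hP.map ((evaluation _ _).obj (op ⦋0⦌))).lift
    ((FormalCoproduct.incl (Over X)).map (Over.homMk e : Over.mk (e ≫ g) ⟶ Over.mk g) ≫ x) z
    ((Category.assoc _ _ _).trans hz.symm)⟩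

end GrothLib.Hyper25
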