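import Groth.Agent.Lib.Hyper25.Criterion

/-!
# The hypercovering of all diagrams in a covering class
-/

set_option autoImplicit false
set_option backward.isDefEq.respectTransparency false
set_option backward.isDefEq.respectTransparency.types false
set_option linter.unusedSectionVars false

universe u

open CategoryTheory CategoryTheory.Limits Opposite Simplicial

attribute [local semireducible] SimplexCategory.Hom

namespace GrothLib.Hyper25

variable {D : Type u} [SmallCategory D] (B : Set D)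

/-- A diagram of members of `B` on the simplices over a simplex. -/
structure Diag (a : SimplexCategory) : Type u where
  obj : ∀ {k : SimplexCategory}, (k ⟶ a) → D
  mem : ∀ {k : SimplexCategory} (φ : k ⟶ a), obj φ ∈ B
  map : ∀ {k l : SimplexCategory} (ψ : l ⟶ k) (φ : k ⟶ a), obj φ ⟶ obj (ψ ≫ φ)
  map_id : ∀ {k : SimplexCategory} (φ : k ⟶ a), map (𝟙 k) φ = 𝟙 (obj φ)
  map_comp : ∀ {k l m : SimplexCategory} (χ : m ⟶ l) (ψ : l ⟶ k) (φ : k ⟶ a),
    map (χ ≫ ψ) φ = map ψ φ ≫ map χ (ψ ≫ φ)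

variable {B}

namespace Diag

theorem ext' {a : SimplexCategory} {A A' : Diag B a}
    (ho : ∀ {k : SimplexCategory} (φ : k ⟶ a), A.obj φ = A'.obj φ)
    (hm : ∀ {k l : SimplexCategory} (ψ : l ⟶ k) (φ : k ⟶ a),
      A.map ψ φ ≫ eqToHom (ho (ψ ≫ φ)) = eqToHom (ho φ) ≫ A'.map ψ φ) : A = A' := by
  obtain ⟨o, m, f, i, c⟩ := A
  obtain ⟨o', m', f', i', c'⟩ := A'
  obtain rfl : @o = @o' := by
    funext k φ
    exact ho φ
  obtain rfl : @f = @f' := by
    funext k l ψ φ
    simpa using hm ψ φ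
  rfl

/-- Pulling back a diagram along a map of simplices. -/
def pull {a b : SimplexCategory} (θ : b ⟶ a) (A : Diag B a) : Diag B b where
  obj φ := A.obj (φ ≫ θ)
  mem φ := A.mem (φ ≫ θ)
  map ψ φ := A.map ψ (φ ≫ θ)
  map_id φ := A.map_id (φ ≫ θ)
  map_comp χ ψ φ := A.map_comp χ ψ (φ ≫ θ)

theorem pull_id {a : SimplexCategory} (A : Diag B a) : A.pull (𝟙 a) = A := rfl

theorem pull_pull {a b c : SimplexCategory} (θ : b ⟶ a) (θ' : c ⟶ b) (A : Diag B a) :
    (A.pull θ).pull θ' = A.pull (θ' ≫ θ) := rfl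

/-- The value at the top simplex. -/
abbrev top {a : SimplexCategory} (A : Diag B a) : D := A.obj (𝟙 a)

/-- The map from the top simplex to the pullback along a map. -/
abbrev toPull {a b : SimplexCategory} (θ : b ⟶ a) (A : Diag B a) : A.top ⟶ (A.pull θ).top :=
  A.map θ (𝟙 a)

/-- The constant diagram. -/
def const (a : SimplexCategory) {V : D} (hV : V ∈ B) : Diag B a where
  obj _ := V
  mem _ := hV
  map _ _ := 𝟙 V
  map_id _ := rfl
  map_comp _ _ _ := (Category.comp_id _).symm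

theorem map_congr {a : SimplexCategory} {A A' : Diag B a} (h : A = A') {k l : SimplexCategory}
    (ψ : l ⟶ k) (φ : k ⟶ a) :
    A.map ψ φ ≫ eqToHom (show A.obj (ψ ≫ φ) = A'.obj (ψ ≫ φ) by rw [h]) =
      eqToHom (show A.obj φ = A'.obj φ by rw [h]) ≫ A'.map ψ φ := by
  subst h
  simp

theorem toPull_congr {a b : SimplexCategory} {A A' : Diag B a} (h : A = A') (θ : b ⟶ a) :
    A.toPull θ ≫ eqToHom (congrArg (fun X => (Diag.pull θ X).top) h) =
      eqToHom (congrArg Diag.top h) ≫ A'.toPull θ := by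
  subst h
  simp

end Diag

variable (B) in
/-- All diagrams of members of `B`, as a simplicial semi-representable object. -/
def univ : SimplicialObject (FormalCoproduct.{u} D) where
  obj a := ⟨Diag B a.unop, fun A => A.top⟩
  map θ := ⟨fun A => A.pull θ.unop, fun A => A.toPull θ.unop⟩
  map_id a := FormalCoproduct.hom_ext rfl fun A => by
    simp only [eqToHom_refl, Category.comp_id]
    exact A.map_id (𝟙 a.unop)
  map_comp {a b c} θ θ' := FormalCoproduct.hom_ext rfl fun A => by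
    simp only [eqToHom_refl, Category.comp_id]
    exact A.map_comp θ'.unop θ.unop (𝟙 a.unop)

section fill

variable {n : ℕ} {U : D} (b : Bdry (univ B) n U) {V : D} (hV : V ∈ B) (g : V ⟶ U)

/-- The index of a boundary at a map. -/
def idx {k : SimplexCategory} (φ : k ⟶ ⦋n + 1⦌) (h : ¬ Function.Surjective φ.toOrderHom) : Diag B k :=
  (b.s φ h).f PUnit.unit

/-- The component of a boundary at a map. -/
def comp {k : SimplexCategory} (φ : k ⟶ ⦋n + 1⦌) (h : ¬ Function.Surjective φ.toOrderHom) :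
    U ⟶ (idx b φ h).top :=
  (b.s φ h).φ PUnit.unit

theorem idx_comp {k l : SimplexCategory} (ψ : l ⟶ k) (φ : k ⟶ ⦋n + 1⦌)
    (h : ¬ Function.Surjective φ.toOrderHom) (h' : ¬ Function.Surjective (ψ ≫ φ).toOrderHom) :
    idx b (ψ ≫ φ) h' = (idx b φ h).pull ψ := by
  obtain ⟨h1, -⟩ := (FormalCoproduct.hom_ext_iff' _ _).1 (b.w ψ φ h h') PUnit.unit
  exact h1

theorem comp_comp {k l : SimplexCategory} (ψ : l ⟶ k) (φ : k ⟶ ⦋n + 1⦌)
    (h : ¬ Function.Surjective φ.toOrderHom) (h' : ¬ Function.Surjective (ψ ≫ φ).toOrderHom) :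
    comp b (ψ ≫ φ) h' ≫ eqToHom (congrArg Diag.top (idx_comp b ψ φ h h')) =
      comp b φ h ≫ (idx b φ h).toPull ψ := by
  obtain ⟨h1, h2⟩ := (FormalCoproduct.hom_ext_iff' _ _).1 (b.w ψ φ h h') PUnit.unit
  exact h2

open Classical in
/-- The objects of the diagram filling a boundary. -/
noncomputable def fillObj {k : SimplexCategory} (φ : k ⟶ ⦋n + 1⦌) (V : D) : D :=
  if h : Function.Surjective φ.toOrderHom then V else (idx b φ h).top

theorem fillObj_pos {k : SimplexCategory} {φ : k ⟶ ⦋n + 1⦌} (h : Function.Surjective φ.toOrderHom) :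
    fillObj b φ V = V := dif_pos h

theorem fillObj_neg {k : SimplexCategory} {φ : k ⟶ ⦋n + 1⦌} (h : ¬ Function.Surjective φ.toOrderHom) :
    fillObj b φ V = (idx b φ h).top := dif_neg h

open Classical in
/-- The maps of the diagram filling a boundary. -/
noncomputable def fillMap {k l : SimplexCategory} (ψ : l ⟶ k) (φ : k ⟶ ⦋n + 1⦌) :
    fillObj b φ V ⟶ fillObj b (ψ ≫ φ) V :=
  if hφ : Function.Surjective φ.toOrderHom then
    if hψφ : Function.Surjective (ψ ≫ φ).toOrderHom then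
      eqToHom ((fillObj_pos b hφ).trans (fillObj_pos b hψφ).symm)
    else eqToHom (fillObj_pos b hφ) ≫ g ≫ comp b (ψ ≫ φ) hψφ ≫ eqToHom (fillObj_neg b hψφ).symm
  else
    eqToHom (fillObj_neg b hφ) ≫ (idx b φ hφ).toPull ψ ≫
      eqToHom ((congrArg Diag.top (idx_comp b ψ φ hφ (not_surj_comp ψ φ hφ))).symm.trans
        (fillObj_neg b (not_surj_comp ψ φ hφ)).symm)

/-- The diagram filling a boundary. -/
noncomputable def fillDiag : Diag B ⦋n + 1⦌ where
  obj φ := fillObj b φ V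
  mem {k} φ := by
    classical
    by_cases h : Function.Surjective φ.toOrderHom
    · rw [fillObj_pos b h]; exact hV
    · rw [fillObj_neg b h]; exact (idx b φ h).mem _
  map ψ φ := fillMap b g ψ φ
  map_id {k} φ := by
    classical
    by_cases h : Function.Surjective φ.toOrderHom
    · rw [fillMap, dif_pos h, dif_pos (show Function.Surjective (𝟙 k ≫ φ).toOrderHom from h)]
      rfl
    · rw [fillMap, dif_neg h]
      have e : (idx b φ h).toPull (𝟙 k) = 𝟙 _ := (idx b φ h).map_id (𝟙 k)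
      rw [e]
      simp
  map_comp {k l m} χ ψ φ := by
    classical
    by_cases h : Function.Surjective φ.toOrderHom
    · by_cases h₁ : Function.Surjective (ψ ≫ φ).toOrderHom
      · by_cases h₂ : Function.Surjective (χ ≫ ψ ≫ φ).toOrderHom
        · rw [fillMap, dif_pos h, dif_pos (show Function.Surjective ((χ ≫ ψ) ≫ φ).toOrderHom from h₂),
            fillMap, dif_pos h, dif_pos h₁, fillMap, dif_pos h₁, dif_pos h₂, eqToHom_trans]
        · rw [fillMap, dif_pos h, dif_neg (show ¬ Function.Surjective ((χ ≫ ψ) ≫ φ).toOrderHom from h₂),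
            fillMap, dif_pos h, dif_pos h₁, fillMap, dif_pos h₁, dif_neg h₂, eqToHom_trans_assoc]
          rfl
      · have h₂ : ¬ Function.Surjective (χ ≫ ψ ≫ φ).toOrderHom := not_surj_comp χ _ h₁
        rw [fillMap, dif_pos h, dif_neg (show ¬ Function.Surjective ((χ ≫ ψ) ≫ φ).toOrderHom from h₂),
          fillMap, dif_pos h, dif_neg h₁, fillMap, dif_neg h₁]
        simp only [Category.assoc, eqToHom_trans_assoc, eqToHom_refl, Category.id_comp]
        rw [← reassoc_of% (comp_comp b χ (ψ ≫ φ) h₁ h₂)]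
        simp only [eqToHom_trans]
        rfl
    · have h₁ := not_surj_comp ψ φ h
      have h₂ : ¬ Function.Surjective (χ ≫ ψ ≫ φ).toOrderHom := not_surj_comp χ _ h₁
      rw [fillMap, dif_neg h, fillMap, dif_neg h, fillMap, dif_neg h₁]
      simp only [Category.assoc, eqToHom_trans_assoc, eqToHom_refl, Category.id_comp]
      have e := Diag.toPull_congr (idx_comp b ψ φ h h₁).symm χ
      rw [show (idx b φ h).toPull (χ ≫ ψ) = (idx b φ h).toPull ψ ≫ ((idx b φ h).pull ψ).toPull χ from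
        (idx b φ h).map_comp χ ψ (𝟙 k)]
      rw [← reassoc_of% e]
      simp only [Category.assoc, eqToHom_trans]

theorem pull_fillDiag {k : SimplexCategory} (φ : k ⟶ ⦋n + 1⦌) (h : ¬ Function.Surjective φ.toOrderHom) :
    (fillDiag b hV g).pull φ = idx b φ h := by
  have ho : ∀ {j : SimplexCategory} (χ : j ⟶ k), fillObj b (χ ≫ φ) V = (idx b φ h).obj χ := fun χ =>
    (fillObj_neg b (not_surj_comp χ φ h)).trans (congrArg Diag.top (idx_comp b χ φ h _))
  refine Diag.ext' ho fun {j l} ψ χ => ?_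
  change fillMap b g ψ (χ ≫ φ) ≫ _ = _
  rw [fillMap, dif_neg (not_surj_comp χ φ h)]
  have e := Diag.toPull_congr (idx_comp b χ φ h (not_surj_comp χ φ h)) ψ
  simp only [Category.assoc, eqToHom_trans]
  have e' : ((idx b φ h).pull χ).toPull ψ = (idx b φ h).map ψ χ := rfl
  rw [e'] at e
  rw [← eqToHom_trans (fillObj_neg b (not_surj_comp χ φ h)) (congrArg Diag.top (idx_comp b χ φ h _)),
    Category.assoc]
  exact congrArg (_ ≫ ·) e

end fill

variable (J : GrothendieckTopology D)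

theorem hasFills_univ (hB : ∀ U : D, ∃ S ∈ J U, ∀ ⦃W : D⦄ (g : W ⟶ U), S g →
    ∃ (V : D) (h : W ⟶ V) (f : V ⟶ U), V ∈ B ∧ h ≫ f = g) : HasFills J (univ B) := by
  intro n U b
  obtain ⟨S, hS, hS'⟩ := hB U
  refine ⟨S, hS, fun W g hg => ?_⟩
  obtain ⟨V, h, f, hV, rfl⟩ := hS' g hg
  classical
  have htop : (fillDiag b hV f).top = V :=
    fillObj_pos b (φ := 𝟙 ⦋n + 1⦌) (fun x => ⟨x, rfl⟩)
  refine ⟨FormalCoproduct.Hom.fromIncl (fillDiag b hV f) (h ≫ eqToHom htop.symm), fun {k} φ hφ => ?_⟩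
  refine FormalCoproduct.hom_ext (funext fun _ => pull_fillDiag b hV f φ hφ) fun _ => ?_
  simp only [univ, FormalCoproduct.category_comp_φ, FormalCoproduct.Hom.fromIncl_φ]
  change ((h ≫ eqToHom _) ≫ fillMap b f φ (𝟙 ⦋n + 1⦌)) ≫ eqToHom _ = (h ≫ f) ≫ comp b φ hφ
  rw [fillMap, dif_pos (show Function.Surjective (SimplexCategory.Hom.toOrderHom (𝟙 ⦋n + 1⦌)) from
    fun x => ⟨x, rfl⟩),
    dif_neg (show ¬ Function.Surjective (φ ≫ 𝟙 ⦋n + 1⦌).toOrderHom from hφ)]
  simp only [Category.assoc, eqToHom_trans_assoc, eqToHom_refl, Category.id_comp, eqToHom_trans]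
  exact congrArg (fun t => h ≫ f ≫ t) (Category.comp_id _)

theorem mem_univ {n : ℕ} (i : ((univ B).obj (op ⦋n⦌)).I) : ((univ B).obj (op ⦋n⦌)).obj i ∈ B :=
  i.mem _

theorem exists_vertex (hB : ∀ U : D, ∃ S ∈ J U, ∀ ⦃W : D⦄ (g : W ⟶ U), S g →
    ∃ (V : D) (h : W ⟶ V) (f : V ⟶ U), V ∈ B ∧ h ≫ f = g) (U : D) :
    ∃ S ∈ J U, ∀ ⦃W : D⦄ (g : W ⟶ U), S g →
      Nonempty ((FormalCoproduct.incl D).obj W ⟶ (univ B).obj (op ⦋0⦌)) := by
  obtain ⟨S, hS, hS'⟩ := hB U
  refine ⟨S, hS, fun W g hg => ?_⟩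
  obtain ⟨V, h, f, hV, rfl⟩ := hS' g hg
  exact ⟨FormalCoproduct.Hom.fromIncl (Diag.const ⦋0⦌ hV) h⟩

theorem covers_of_sieve (hB : ∀ U : D, ∃ (ι : Type u) (V : ι → D) (f : ∀ i, V i ⟶ U),
    Sieve.ofArrows V f ∈ J U ∧ ∀ i, V i ∈ B) (U : D) :
    ∃ S ∈ J U, ∀ ⦃W : D⦄ (g : W ⟶ U), S g →
      ∃ (V : D) (h : W ⟶ V) (f : V ⟶ U), V ∈ B ∧ h ≫ f = g := by
  obtain ⟨ι, V, f, hf, hV⟩ := hB U
  refine ⟨_, hf, ?_⟩
  rintro W g ⟨_, h, _, ⟨i⟩, rfl⟩
  exact ⟨V i, h, f i, hV i, rfl⟩

end GrothLib.Hyper25
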